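import Groth.Agent.Lib.SekSuwa.Free
import Mathlib.RingTheory.HopfAlgebra.Quotient
import Mathlib.RingTheory.Bialgebra.Equiv
import Mathlib.Algebra.Category.Ring.Constructions
import Mathlib.GroupTheory.SpecificGroups.Cyclic
import Mathlib.RingTheory.RingHom.FinitePresentation

/-!
Orders in the functions on a group of square-prime order are extensions of congruence groups.
-/

universe u

open TensorProduct Polynomial CategoryTheory

noncomputable section

namespace GrothLib.SekSuwa

variable {R : Type u} [CommRing R] [IsDomain R] [IsDiscreteValuationRing R]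
  {K : Type u} [Field K] [Algebra R K] [IsFractionRing R K]
  {A : Type u} [CommRing A] [HopfAlgebra R A] [Module.Finite R A] [Module.Free R A]
  {p : ℕ} [hpf : Fact p.Prime] [CharP (IsLocalRing.ResidueField R) p]

set_option maxHeartbeats 1600000 in
/-- An order in the functions on a group of square-prime order is an extension of two congruence groups. -/
theorem exists_extension {M : Type*} [AddGroup M] [Fintype M] (π : M → (A →ₐ[R] K)) (hdist : Function.Injective π)
    (hinj : Function.Injective (Algebra.TensorProduct.lift (Algebra.ofId K (M → K)) (fn π) fun _ _ => Commute.all _ _))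
    (hmul : ∀ i j, WithConv.toConv (π (i + j)) = WithConv.toConv (π i) * WithConv.toConv (π j))
    (hz : ∀ a, π 0 a = algebraMap R K (Coalgebra.counit a))
    (hcard : Fintype.card M = p * p) (χ : M →+ ZMod p) (hχ : Function.Surjective χ)
    (ζ : R) (hζ : IsPrimitiveRoot ζ p) :
    ∃ (lam mu : R) (h₁ : SekSuwa.DivCond lam p) (h₂ : SekSuwa.DivCond mu p)
      (φ : SekSuwa.AK R mu p h₂ →ₐc[R] A) (ψ : A →ₐc[R] SekSuwa.AK R lam p h₁),
      lam ≠ 0 ∧ mu ≠ 0 ∧ (∀ x, ψ (φ x) = algebraMap R _ (Coalgebra.counit x)) ∧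
        (φ : SekSuwa.AK R mu p h₂ →ₐ[R] A).toRingHom.Flat ∧
        (φ : SekSuwa.AK R mu p h₂ →ₐ[R] A).toRingHom.FinitePresentation ∧
        Function.Surjective (PrimeSpectrum.comap (φ : SekSuwa.AK R mu p h₂ →ₐ[R] A).toRingHom) ∧
        IsPushout (CommRingCat.ofHom (φ : SekSuwa.AK R mu p h₂ →ₐ[R] A).toRingHom)
          (CommRingCat.ofHom (φ : SekSuwa.AK R mu p h₂ →ₐ[R] A).toRingHom)
          (CommRingCat.ofHom (Algebra.TensorProduct.includeLeft : A →ₐ[R] A ⊗[R] SekSuwa.AK R lam p h₁).toRingHom)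
          (CommRingCat.ofHom ((Algebra.TensorProduct.map (AlgHom.id R A) (ψ : A →ₐ[R] SekSuwa.AK R lam p h₁)).comp
            (Bialgebra.comulAlgHom R A)).toRingHom) := by
  classical
  have hp : p.Prime := hpf.out
  haveI : NeZero p := ⟨hp.ne_zero⟩
  obtain ⟨hrkA, hfn, u, hu, hup, hu1, hπu⟩ := exists_grouplike' π hdist hinj hmul hz ζ hζ χ hχ
  rw [hcard] at hrkA
  obtain ⟨mu, h₂, φ, hm0, l, hl, hφt⟩ : ∃ (mu : R) (h₂ : SekSuwa.DivCond mu p) (φ : SekSuwa.AK R mu p h₂ →ₐc[R] A),
      mu ≠ 0 ∧ ∃ l : A →ₗ[R] SekSuwa.AK R mu p h₂, (∀ x, l (φ x) = x) ∧ 1 + mu • φ SekSuwa.AK.t = u := by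
    exact exists_hom_AK π χ hχ ζ hζ u hu hup hu1 hπu
  have hπt : ∀ m, algebraMap R K mu * π m (φ SekSuwa.AK.t) = algebraMap R K ζ ^ (χ m).val - 1 := fun m => by
    rw [← hπu, ← hφt, map_add, map_one, map_smul, Algebra.smul_def]; ring
  obtain ⟨v, hv⟩ := exists_span π hfn hcard hrkA χ hχ ζ hζ mu h₂ hm0 φ l hl hπt
  obtain ⟨hfree, hfin, hrkB⟩ := AK_free mu hp.pos h₂
  haveI := hfree
  haveI := hfin
  -- the basis over the quotient
  let Φ : (Fin p → SekSuwa.AK R mu p h₂) →ₗ[R] A :=
    ∑ j, (LinearMap.mulRight R (v j)) ∘ₗ (φ : SekSuwa.AK R mu p h₂ →ₐ[R] A).toLinearMap ∘ₗ LinearMap.proj j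
  have hΦ : ∀ b, Φ b = ∑ j, φ (b j) * v j := fun b => by simp [Φ]
  have hΦb : Function.Bijective Φ := by
    have hs : Function.Surjective Φ := fun a => by
      obtain ⟨b, hb⟩ := hv a
      exact ⟨b, (hΦ b).trans hb.symm⟩
    refine ⟨?_, hs⟩
    let e := LinearEquiv.ofFinrankEq (Fin p → SekSuwa.AK R mu p h₂) A
      (by rw [Module.finrank_pi_fintype R, Finset.sum_const, hrkB, hrkA, Finset.card_univ, Fintype.card_fin, smul_eq_mul])
    exact OrzechProperty.injective_of_surjective_of_injective e.toLinearMap Φ e.injective hs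
  -- the kernel
  set t : A := φ SekSuwa.AK.t with ht
  let I : Ideal A := Ideal.span {t}
  have htI : t ∈ I := Ideal.mem_span_singleton_self t
  have hεt : Coalgebra.counit (R := R) t = 0 := by
    rw [ht, CoalgHomClass.counit_comp_apply, SekSuwa.AK.counit_t]
  have hΔt : Coalgebra.comul (R := R) t = t ⊗ₜ[R] 1 + 1 ⊗ₜ[R] t + mu • (t ⊗ₜ[R] t) := by
    rw [ht, ← CoalgHomClass.map_comp_comul_apply φ, SekSuwa.AK.comul_t]
    simp
  haveI hI : I.IsHopfIdeal R := by
    have hco : (I.restrictScalars R).IsCoideal := by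
      refine Submodule.IsCoideal.mk ?_ ?_
      · intro z hz
        obtain ⟨a, rfl⟩ := Ideal.mem_span_singleton'.mp hz
        show Bialgebra.counitAlgHom R A (a * t) = 0
        rw [map_mul]
        show _ * Coalgebra.counit (R := R) t = 0
        rw [hεt, mul_zero]
      · intro z hz
        obtain ⟨a, rfl⟩ := Ideal.mem_span_singleton'.mp hz
        have hmk : (Submodule.restrictScalars R I).mkQ = (Ideal.Quotient.mkₐ R I).toLinearMap := rfl
        rw [hmk]
        change Algebra.TensorProduct.map (Ideal.Quotient.mkₐ R I) (Ideal.Quotient.mkₐ R I)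
          (Bialgebra.comulAlgHom R A (a * t)) = 0
        rw [map_mul, map_mul]
        change _ * Algebra.TensorProduct.map _ _ (Coalgebra.comul (R := R) t) = 0
        have h0 : Ideal.Quotient.mkₐ R I t = 0 := Ideal.Quotient.eq_zero_iff_mem.mpr htI
        rw [hΔt]
        simp [h0]
    refine { hco with antipode_mem := ?_ }
    intro z hz
    obtain ⟨a, rfl⟩ := Ideal.mem_span_singleton'.mp hz
    rw [HopfAlgebra.antipode_mul_distrib]
    refine Ideal.mul_mem_left _ _ ?_
    have h0 := HopfAlgebra.mul_antipode_rTensor_comul_apply (R := R) t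
    rw [hεt, map_zero, hΔt] at h0
    simp only [map_add, map_smul, LinearMap.rTensor_tmul, LinearMap.mul'_apply, HopfAlgebra.antipode_one, mul_one,
      one_mul] at h0
    have hinv : (1 + mu • t) * u ^ (p - 1) = 1 := by
      rw [hφt, ← pow_succ', Nat.sub_add_cancel hp.one_le, hup]
    have h1 : HopfAlgebra.antipode R t = -(u ^ (p - 1)) * t := by
      rw [Algebra.smul_def] at h0 hinv
      linear_combination (u ^ (p - 1)) * h0 - HopfAlgebra.antipode R t * hinv
    rw [h1]
    exact Ideal.mul_mem_left _ _ htI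
  let q : A →ₐc[R] A ⧸ I := Bialgebra.Quotient.mkBialgHom I
  have hqφ : ∀ x, q (φ x) = algebraMap R _ (Coalgebra.counit x) := fun x => by
    obtain ⟨Q, rfl⟩ := AK_generated mu hp.pos h₂ x
    have h1 : φ (aeval SekSuwa.AK.t Q) = aeval t Q :=
      (aeval_algHom_apply (φ : SekSuwa.AK R mu p h₂ →ₐ[R] A) _ _).symm
    have h2 : q (aeval t Q) = aeval (q t) Q := (aeval_algHom_apply (q : A →ₐ[R] A ⧸ I) _ _).symm
    have h3 : Coalgebra.counit (R := R) (aeval (SekSuwa.AK.t : SekSuwa.AK R mu p h₂) Q) = aeval (0 : R) Q := by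
      have h := aeval_algHom_apply (Bialgebra.counitAlgHom R (SekSuwa.AK R mu p h₂)) SekSuwa.AK.t Q
      rw [show Bialgebra.counitAlgHom R (SekSuwa.AK R mu p h₂) SekSuwa.AK.t = 0 from SekSuwa.AK.counit_t (R := R) (lam := mu) (N := p) (h := h₂)] at h
      exact h.symm
    have hqt : q t = algebraMap R _ (0 : R) := by
      rw [map_zero]; exact Ideal.Quotient.eq_zero_iff_mem.mpr htI
    rw [h1, h2, h3, hqt, aeval_algebraMap_apply]
  have hspanQ : ⊤ ≤ Submodule.span R (Set.range fun j => q (v j)) := by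
    rintro x -
    obtain ⟨a, rfl⟩ := Ideal.Quotient.mk_surjective x
    obtain ⟨b, hb⟩ := hv a
    show q a ∈ _
    rw [hb, map_sum]
    refine Submodule.sum_mem _ fun j _ => ?_
    rw [map_mul, hqφ, ← Algebra.smul_def]
    exact Submodule.smul_mem _ _ (Submodule.subset_span ⟨j, rfl⟩)
  have hliQ : LinearIndependent R fun j => q (v j) := by
    rw [Fintype.linearIndependent_iff]
    intro g hg j
    have hmem : ∑ j, g j • v j ∈ I := by
      rw [← Ideal.Quotient.eq_zero_iff_mem]
      refine Eq.trans ?_ hg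
      show q _ = _
      simp [map_sum]
    obtain ⟨a, ha⟩ := Ideal.mem_span_singleton'.1 hmem
    obtain ⟨b, hb⟩ := hv a
    have h1 : Φ (fun j => algebraMap R _ (g j)) = Φ (fun j => SekSuwa.AK.t * b j) := by
      rw [hΦ, hΦ]
      refine Eq.trans ?_ (Eq.trans ha.symm ?_)
      · refine Finset.sum_congr rfl fun j _ => ?_
        rw [AlgHomClass.commutes, Algebra.smul_def]
      · rw [hb, Finset.sum_mul]
        refine Finset.sum_congr rfl fun j _ => ?_
        rw [map_mul, ← ht]; ring
    have h2 := congrArg (Bialgebra.counitAlgHom R (SekSuwa.AK R mu p h₂)) (congrFun (hΦb.1 h1) j)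
    rw [map_mul, AlgHom.commutes, show Bialgebra.counitAlgHom R (SekSuwa.AK R mu p h₂) SekSuwa.AK.t = 0 from
      SekSuwa.AK.counit_t (R := R) (lam := mu) (N := p) (h := h₂), zero_mul] at h2
    exact h2
  let bQ := Module.Basis.mk hliQ hspanQ
  haveI : Module.Free R (A ⧸ I) := Module.Free.of_basis bQ
  haveI : Module.Finite R (A ⧸ I) := Module.Finite.of_basis bQ
  have hrkQ : Module.finrank R (A ⧸ I) = p := by rw [Module.finrank_eq_card_basis bQ, Fintype.card_fin]
  -- the subgroup
  have hπker : ∀ m, χ m = 0 → ∀ a ∈ I, π m a = 0 := by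
    intro m hm a ha
    obtain ⟨c, rfl⟩ := Ideal.mem_span_singleton'.1 ha
    have h := hπt m
    rw [hm, ZMod.val_zero, pow_zero, sub_self] at h
    rw [map_mul, (mul_eq_zero.1 h).resolve_left (fun h0 => hm0 (IsFractionRing.injective R K (h0.trans (map_zero _).symm))),
      mul_zero]
  have hker : Nat.card χ.ker = p := by
    have h := AddSubgroup.card_mul_index χ.ker
    rw [AddSubgroup.index_ker, AddMonoidHom.range_eq_top.2 hχ, AddSubgroup.card_top, Nat.card_zmod,
      Nat.card_eq_fintype_card (α := M), hcard] at h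
    exact Nat.eq_of_mul_eq_mul_right hp.pos h
  let ι₀ : ZMod p ≃+ χ.ker :=
    zmodAddEquivOfGenerator (isAddCyclic_of_prime_card hker).exists_generator.choose_spec hker
  let π₀ : ZMod p → ((A ⧸ I) →ₐ[R] K) := fun i =>
    Ideal.Quotient.liftₐ I (π (ι₀ i).1) (hπker _ (AddMonoidHom.mem_ker.1 (ι₀ i).2))
  have hπ₀q : ∀ i a, π₀ i (q a) = π (ι₀ i).1 a := fun i a => rfl
  have hdist₀ : Function.Injective π₀ := fun i j h => ι₀.injective (Subtype.ext (hdist (AlgHom.ext fun a => by
    rw [← hπ₀q, ← hπ₀q, h])))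
  have hinj₀ : Function.Injective (Algebra.TensorProduct.lift (Algebra.ofId K (ZMod p → K)) (fn π₀)
      fun _ _ => Commute.all _ _) := by
    let J := Algebra.TensorProduct.lift (Algebra.ofId K (M → K)) (fn π) fun _ _ => Commute.all _ _
    let J₀ := Algebra.TensorProduct.lift (Algebra.ofId K (ZMod p → K)) (fn π₀) fun _ _ => Commute.all _ _
    have hJ : Function.Surjective J.toLinearMap :=
      (LinearMap.injective_iff_surjective_of_finrank_eq_finrank (by
        rw [Module.finrank_baseChange, hrkA, Module.finrank_fintype_fun_eq_card, hcard])).1 hinj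
    refine (LinearMap.injective_iff_surjective_of_finrank_eq_finrank (f := J₀.toLinearMap) (by
      rw [Module.finrank_baseChange, hrkQ, Module.finrank_fintype_fun_eq_card, ZMod.card])).2 fun h => ?_
    obtain ⟨z, hzh⟩ := hJ (Function.extend (fun i => (ι₀ i).1) h 0)
    refine ⟨LinearMap.baseChange K (q : A →ₐ[R] A ⧸ I).toLinearMap z, ?_⟩
    have key : ∀ z i, J₀ (LinearMap.baseChange K (q : A →ₐ[R] A ⧸ I).toLinearMap z) i = J z (ι₀ i).1 := fun z i => by
      induction z using TensorProduct.induction_on with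
      | zero => simp
      | add x y hx hy => simp only [map_add, Pi.add_apply, hx, hy]
      | tmul c a => simp [J₀, J, fn_apply, hπ₀q]
    funext i
    refine (key z i).trans ?_
    exact (congrFun hzh _).trans (Function.Injective.extend_apply (Subtype.val_injective.comp ι₀.injective) _ _ i)
  have hmul₀ : ∀ i j, WithConv.toConv (π₀ (i + j)) = WithConv.toConv (π₀ i) * WithConv.toConv (π₀ j) := by
    intro i j
    refine WithConv.ofConv_injective (AlgHom.ext fun x => ?_)
    obtain ⟨a, rfl⟩ := Ideal.Quotient.mk_surjective x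
    show π₀ (i + j) (q a) = _
    obtain ⟨s, hs⟩ := TensorProduct.exists_finset (Coalgebra.comul (R := R) a)
    have h := congrArg (fun w : WithConv (A →ₐ[R] K) => w.ofConv a) (hmul (ι₀ i).1 (ι₀ j).1)
    simp only [WithConv.ofConv_toConv, AlgHom.convMul_apply, hs] at h
    rw [hπ₀q, map_add, AddSubgroup.coe_add, h, AlgHom.convMul_apply,
      show Coalgebra.comul (R := R) (Ideal.Quotient.mk I a) = _ from (CoalgHomClass.map_comp_comul_apply q a).symm, hs]
    simp [map_sum, ← hπ₀q]
  have hz₀ : ∀ x, π₀ 0 x = algebraMap R K (Coalgebra.counit x) := by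
    intro x
    obtain ⟨a, rfl⟩ := Ideal.Quotient.mk_surjective x
    show π₀ 0 (q a) = _
    rw [hπ₀q, map_zero, ZeroMemClass.coe_zero, hz,
      show Coalgebra.counit (R := R) (Ideal.Quotient.mk I a) = _ from CoalgHomClass.counit_comp_apply q a]
  obtain ⟨hrk₀, hfn₀, u₀, hu₀, hu₀p, hu₀1, hπu₀⟩ := exists_grouplike π₀ hdist₀ hinj₀ hmul₀ hz₀ ζ hζ
  obtain ⟨lam, h₁, φ₀, hl0, hφ₀⟩ := exists_equiv_AK π₀ hfn₀ hrk₀ ζ hζ u₀ hu₀ hu₀p hu₀1 hπu₀
  let e₀ := (BialgEquiv.ofBijective φ₀ hφ₀).symm
  let ψ : A →ₐc[R] SekSuwa.AK R lam p h₁ := (e₀ : (A ⧸ I) →ₐc[R] _).comp q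
  have hψs : Function.Surjective ψ := e₀.surjective.comp Ideal.Quotient.mk_surjective
  have hψφ : ∀ x, ψ (φ x) = algebraMap R _ (Coalgebra.counit x) := fun x => by
    show e₀ (q (φ x)) = _
    rw [hqφ]
    exact AlgHomClass.commutes e₀ _
  -- the order over the quotient
  letI : Algebra (SekSuwa.AK R mu p h₂) A := (φ : SekSuwa.AK R mu p h₂ →ₐ[R] A).toRingHom.toAlgebra
  haveI : IsScalarTower R (SekSuwa.AK R mu p h₂) A :=
    IsScalarTower.of_algebraMap_eq fun r => ((φ : SekSuwa.AK R mu p h₂ →ₐ[R] A).commutes r).symm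
  let bA : Module.Basis (Fin p) (SekSuwa.AK R mu p h₂) A :=
    Module.Basis.ofEquivFun (LinearEquiv.ofBijective
      ({ toFun := Φ, map_add' := map_add Φ, map_smul' := fun c b => by
          rw [RingHom.id_apply, hΦ, hΦ, Finset.smul_sum]
          refine Finset.sum_congr rfl fun j _ => ?_
          rw [Pi.smul_apply, smul_eq_mul, map_mul, Algebra.smul_def, mul_assoc]
          rfl } : (Fin p → SekSuwa.AK R mu p h₂) →ₗ[SekSuwa.AK R mu p h₂] A) hΦb).symm
  haveI : Module.Free (SekSuwa.AK R mu p h₂) A := Module.Free.of_basis bA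
  haveI : Module.Finite (SekSuwa.AK R mu p h₂) A := Module.Finite.of_basis bA
  haveI : Nontrivial A := nontrivial_of_ne _ _ hu1
  haveI : Algebra.FinitePresentation R A := Algebra.FinitePresentation.of_finiteType.1 inferInstance
  haveI : Nontrivial (SekSuwa.AK R mu p h₂) := Module.nontrivial_of_finrank_pos (R := R) (by rw [hrkB]; exact hp.pos)
  refine ⟨lam, mu, h₁, h₂, φ, ψ, hl0, hm0, hψφ, RingHom.flat_algebraMap_iff.2 inferInstance,
    RingHom.finitePresentation_algebraMap.2 ((Algebra.FinitePresentation.of_restrict_scalars_finitePresentation R _ _)), ?_, ?_⟩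
  · haveI : Module.FaithfullyFlat (SekSuwa.AK R mu p h₂) A := inferInstance
    exact PrimeSpectrum.comap_surjective_of_faithfullyFlat
  let θR := (Algebra.TensorProduct.map (AlgHom.id R A) (ψ : A →ₐ[R] SekSuwa.AK R lam p h₁)).comp
    (Bialgebra.comulAlgHom R A)
  have hθφ : ∀ x, θR (φ x) = φ x ⊗ₜ[R] 1 := fun x => by
    show Algebra.TensorProduct.map _ _ (Coalgebra.comul (R := R) (φ x)) = _
    obtain ⟨s, hs⟩ := TensorProduct.exists_finset (Coalgebra.comul (R := R) x)
    rw [← CoalgHomClass.map_comp_comul_apply φ, hs]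
    have h2 := congrArg (TensorProduct.rid R _) (Coalgebra.lTensor_counit_comul (R := R) x)
    rw [hs] at h2
    simp only [map_sum, LinearMap.lTensor_tmul, TensorProduct.rid_tmul, one_smul] at h2
    conv_rhs => rw [← h2]
    simp [map_sum, hψφ, TensorProduct.sum_tmul, TensorProduct.smul_tmul, Algebra.algebraMap_eq_smul_one]
  let θR' : A →ₐ[SekSuwa.AK R mu p h₂] A ⊗[R] SekSuwa.AK R lam p h₁ :=
    { θR.toRingHom with commutes' := fun x => hθφ x }
  let θ := Algebra.TensorProduct.lift
    (Algebra.TensorProduct.includeLeft : A →ₐ[SekSuwa.AK R mu p h₂] A ⊗[R] SekSuwa.AK R lam p h₁) θR'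
    fun _ _ => Commute.all _ _
  have hθs : Function.Surjective θ := by
    intro z
    obtain ⟨w, rfl⟩ := (TensorProduct.map_surjective (show Function.Surjective (AlgHom.id R A).toLinearMap from fun x => ⟨x, rfl⟩)
      (hψs : Function.Surjective (ψ : A →ₐ[R] SekSuwa.AK R lam p h₁).toLinearMap)) z
    obtain ⟨y, rfl⟩ := (translate_bijective (R := R) (A := A)).2 w
    clear hψs
    induction y using TensorProduct.induction_on with
    | zero => exact ⟨0, by simp⟩
    | add x y hx hy =>
      obtain ⟨a, ha⟩ := hx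
      obtain ⟨b, hb⟩ := hy
      exact ⟨a + b, by rw [map_add, map_add, map_add, ha, hb]⟩
    | tmul a b =>
      refine ⟨a ⊗ₜ b, ?_⟩
      show θ (a ⊗ₜ b) = Algebra.TensorProduct.map (AlgHom.id R A) (ψ : A →ₐ[R] SekSuwa.AK R lam p h₁) _
      rw [Algebra.TensorProduct.lift_tmul, Algebra.TensorProduct.lift_tmul, map_mul]
      simp [θR', θR]
  obtain ⟨hfree₁, hfin₁, hrk₁⟩ := AK_free lam hp.pos h₁
  haveI := hfree₁
  haveI := hfin₁
  have hθi : Function.Injective θ := by
    haveI : Module.Free R (A ⊗[SekSuwa.AK R mu p h₂] A) := Module.Free.trans (S := SekSuwa.AK R mu p h₂)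
    haveI : Module.Finite R (A ⊗[SekSuwa.AK R mu p h₂] A) := Module.Finite.trans (SekSuwa.AK R mu p h₂) _
    let e := LinearEquiv.ofFinrankEq (A ⊗[SekSuwa.AK R mu p h₂] A) (A ⊗[R] SekSuwa.AK R lam p h₁) (by
      rw [← Module.finrank_mul_finrank R (SekSuwa.AK R mu p h₂) (A ⊗[SekSuwa.AK R mu p h₂] A), Module.finrank_tensorProduct,
        Module.finrank_tensorProduct, Module.finrank_eq_card_basis bA, hrkA, hrkB, hrk₁, Fintype.card_fin]
      ring)
    exact OrzechProperty.injective_of_surjective_of_injective e.toLinearMap (θ.toLinearMap.restrictScalars R)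
      e.injective hθs
  have h := CommRingCat.isPushout_tensorProduct (SekSuwa.AK R mu p h₂) A A
  refine h.of_iso (Iso.refl _) (Iso.refl _) (Iso.refl _)
    (RingEquiv.ofBijective θ.toRingHom ⟨hθi, hθs⟩).toCommRingCatIso ?_ ?_ ?_ ?_
  · exact (Category.comp_id _).trans (Category.id_comp _).symm
  · exact (Category.comp_id _).trans (Category.id_comp _).symm
  · refine Eq.trans ?_ (Category.id_comp _).symm
    ext a
    show θ (a ⊗ₜ 1) = a ⊗ₜ 1
    simp [θ]
  · refine Eq.trans ?_ (Category.id_comp _).symm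
    ext a
    show θ (1 ⊗ₜ a) = θR a
    rw [Algebra.TensorProduct.lift_tmul, map_one, one_mul]
    rfl

end GrothLib.SekSuwa
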