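import Groth.Agent.Lib.SekSuwa.Iso
import Mathlib.RingTheory.RootsOfUnity.CyclotomicUnits
import Mathlib.RingTheory.LocalRing.Module
import Mathlib.LinearAlgebra.Dimension.LinearMap
import Mathlib.RingTheory.Flat.Basic
import Mathlib.LinearAlgebra.Dimension.OrzechProperty

/-!
A finite algebra with a coaction twisting a truncated one-parameter element is free over the subalgebra it generates.
-/

universe u

open TensorProduct

noncomputable section

namespace GrothLib.SekSuwa

section Field

variable {k : Type*} [Field k] {C : Type*} [CommRing C] [Algebra k C] [Module.Finite k C]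

/-- Left-right contraction with a functional. -/
def conR (g : C →ₗ[k] k) : C ⊗[k] C →ₗ[k] C :=
  (TensorProduct.rid k C).toLinearMap ∘ₗ LinearMap.lTensor C g

theorem conR_tmul (g : C →ₗ[k] k) (a b : C) : conR g (a ⊗ₜ[k] b) = g b • a := by simp [conR]

/-- Contraction on the left with a functional. -/
def conL (g : C →ₗ[k] k) : C ⊗[k] C →ₗ[k] C :=
  (TensorProduct.lid k C).toLinearMap ∘ₗ LinearMap.rTensor C g

theorem conL_tmul (g : C →ₗ[k] k) (a b : C) : conL g (a ⊗ₜ[k] b) = g a • b := by simp [conL]

variable {p : ℕ}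

/-- Powers of a nilpotent element applied to lifts of a basis of the image of the top power are independent. -/
theorem li_pow (T : C) (hT : T ^ p = 0) {f : ℕ} (v : Fin f → C)
    (hv : LinearIndependent k fun j => T ^ (p - 1) * v j) :
    LinearIndependent k fun ij : Fin p × Fin f => T ^ (ij.1 : ℕ) * v ij.2 := by
  classical
  rw [Fintype.linearIndependent_iff]
  intro g hg
  have hstep : ∀ (i₀ : ℕ) (h : i₀ < p), ∀ j, g (⟨i₀, h⟩, j) = 0 := by
    intro i₀
    induction i₀ using Nat.strong_induction_on with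
    | _ i₀ ih =>
      intro h j
      have h2 := congrArg (T ^ (p - 1 - i₀) * ·) hg
      simp only [mul_zero, Finset.mul_sum, Fintype.sum_prod_type, mul_smul_comm, ← mul_assoc, ← pow_add] at h2
      rw [Finset.sum_eq_single (⟨i₀, h⟩ : Fin p) (fun i _ hne => Finset.sum_eq_zero fun l _ => by
        rcases lt_or_gt_of_ne (fun e => hne (Fin.ext e) : (i : ℕ) ≠ i₀) with hlt | hgt
        · rw [ih _ hlt i.2 l, zero_smul]
        · rw [show p - 1 - i₀ + (i : ℕ) = p + (i - i₀ - 1) by omega, pow_add, hT, zero_mul, zero_mul, smul_zero])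
        (fun h => absurd (Finset.mem_univ _) h)] at h2
      simp only [show p - 1 - i₀ + i₀ = p - 1 by omega] at h2
      exact Fintype.linearIndependent_iff.1 hv (fun l => g (⟨i₀, h⟩, l)) h2 j
  rintro ⟨⟨i, hi⟩, j⟩
  exact hstep i hi j

/-- The top power of an element twisted by a comultiplication has image of dimension `dim C / p`. -/
theorem finrank_range_pow (T : C) (hp : 0 < p) (hT : T ^ p = 0) (lam : k) (hT0 : T ^ (p - 1) ≠ 0)
    (Δ : C →ₐ[k] C ⊗[k] C)
    (hΘ : Function.Bijective (Algebra.TensorProduct.lift (Algebra.TensorProduct.includeLeft : C →ₐ[k] C ⊗[k] C) Δ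
      fun _ _ => Commute.all _ _))
    (hΔ : Δ T = T ⊗ₜ[k] 1 + 1 ⊗ₜ[k] T + lam • (T ⊗ₜ[k] T)) :
    ∃ (f : ℕ) (v : Fin f → C), Module.finrank k C = p * f ∧
      LinearIndependent k fun ij : Fin p × Fin f => T ^ (ij.1 : ℕ) * v ij.2 := by
  classical
  let I := LinearMap.range (LinearMap.mulLeft k (T ^ (p - 1)))
  let f := Module.finrank k I
  let b := Module.finBasis k I
  choose v hv using fun j : Fin f => (b j).2
  have hv' : LinearIndependent k fun j => T ^ (p - 1) * v j := by
    simp only [LinearMap.mulLeft_apply] at hv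
    simp only [hv]
    exact b.linearIndependent.map' I.subtype (Submodule.ker_subtype _)
  have hli := li_pow T hT v hv'
  refine ⟨f, v, ?_, hli⟩
  have hfpos : 0 < f := Module.finrank_pos_iff_exists_ne_zero.2
    ⟨⟨T ^ (p - 1), 1, mul_one _⟩, fun h => hT0 (congrArg Subtype.val h)⟩
  set e := fun ij : Fin p × Fin f => T ^ (ij.1 : ℕ) * v ij.2 with he
  let F := Submodule.span k (Set.range e)
  have hFdim : Module.finrank k F = p * f := by
    rw [finrank_span_eq_card hli, Fintype.card_prod, Fintype.card_fin, Fintype.card_fin]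
  obtain ⟨r, hr⟩ := LinearMap.exists_leftInverse_of_injective (Finsupp.linearCombination k e)
    (LinearMap.ker_eq_bot.2 hli)
  let φ : Fin f → C →ₗ[k] k := fun l => Finsupp.lapply ((⟨p - 1, by omega⟩, l) : Fin p × Fin f) ∘ₗ r
  have hφ : ∀ (l : Fin f) (a : ℕ) (j : Fin f), a < p →
      φ l (T ^ a * v j) = if a = p - 1 ∧ j = l then 1 else 0 := fun l a j ha => by
    have h := congr($hr (Finsupp.single (⟨a, ha⟩, j) (1 : k)))
    simp only [LinearMap.comp_apply, Finsupp.linearCombination_single, one_smul, LinearMap.id_apply] at h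
    simp only [φ, LinearMap.comp_apply, Finsupp.lapply_apply, show T ^ a * v j = e (⟨a, ha⟩, j) from rfl, h,
      Finsupp.single_apply, Prod.mk.injEq, Fin.ext_iff]
  have hFT : ∀ (c : C) (a : ℕ), c ∈ F → T ^ a * c ∈ F := fun c a hc => by
    refine Submodule.span_induction ?_ (by simp) (fun x y _ _ hx hy => by rw [mul_add]; exact add_mem hx hy)
      (fun r x _ hx => by rw [mul_smul_comm]; exact F.smul_mem r hx) hc
    rintro _ ⟨⟨i, j⟩, rfl⟩
    show T ^ a * (T ^ (i : ℕ) * v j) ∈ F
    rw [← mul_assoc, ← pow_add]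
    rcases lt_or_ge (a + i) p with h | h
    · exact Submodule.subset_span ⟨(⟨a + i, h⟩, j), rfl⟩
    · rw [← Nat.add_sub_cancel' h, pow_add, hT, zero_mul, zero_mul]
      exact F.zero_mem
  obtain ⟨X, hX⟩ := F.exists_isCompl
  -- the twisted power
  let Sp : C ⊗[k] C := Δ T ^ (p - 1)
  let U : C := (1 + lam • T) ^ (p - 1)
  have hU : IsUnit U := by
    refine IsUnit.pow _ (IsNilpotent.isUnit_one_add ?_)
    exact ⟨p, by rw [smul_pow, hT, smul_zero]⟩
  have hexp₁ : Sp = ∑ m ∈ Finset.range p, ((p - 1).choose m : k) •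
      ((T ^ m * (1 + lam • T) ^ (p - 1 - m)) ⊗ₜ[k] (T ^ (p - 1 - m))) := by
    have : Δ T = T ⊗ₜ[k] 1 + (1 + lam • T) ⊗ₜ[k] T := by
      rw [hΔ, TensorProduct.add_tmul, TensorProduct.smul_tmul']; abel
    show Δ T ^ (p - 1) = _
    rw [this, add_pow, Nat.sub_add_cancel hp]
    refine Finset.sum_congr rfl fun m _ => ?_
    rw [Algebra.TensorProduct.tmul_pow, Algebra.TensorProduct.tmul_pow, Algebra.TensorProduct.tmul_mul_tmul, one_pow,
      one_mul, ← nsmul_eq_mul', Nat.cast_smul_eq_nsmul]
  have hexp₂ : Sp = ∑ m ∈ Finset.range p, ((p - 1).choose m : k) •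
      ((T ^ (p - 1 - m)) ⊗ₜ[k] (T ^ m * (1 + lam • T) ^ (p - 1 - m))) := by
    have : Δ T = 1 ⊗ₜ[k] T + T ⊗ₜ[k] (1 + lam • T) := by
      rw [hΔ, TensorProduct.tmul_add, TensorProduct.tmul_smul]; abel
    show Δ T ^ (p - 1) = _
    rw [this, add_pow, Nat.sub_add_cancel hp]
    refine Finset.sum_congr rfl fun m _ => ?_
    rw [Algebra.TensorProduct.tmul_pow, Algebra.TensorProduct.tmul_pow, Algebra.TensorProduct.tmul_mul_tmul, one_pow,
      one_mul, ← nsmul_eq_mul', Nat.cast_smul_eq_nsmul]
  let Φ : ((Fin f → C) × (Fin f → X)) →ₗ[k] C ⊗[k] C :=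
    LinearMap.mulLeft k Sp ∘ₗ
      ((∑ j, (TensorProduct.mk k C C (v j)) ∘ₗ LinearMap.proj j ∘ₗ LinearMap.fst k _ _) +
       ∑ j, ((TensorProduct.mk k C C).flip (v j)) ∘ₗ X.subtype ∘ₗ LinearMap.proj j ∘ₗ LinearMap.snd k _ _)
  have hΦ : ∀ y x, Φ (y, x) = Sp * (∑ j, v j ⊗ₜ[k] y j + ∑ j, (x j : C) ⊗ₜ[k] v j) := fun y x => by simp [Φ]
  have hinj : Function.Injective Φ := by
    rw [injective_iff_map_eq_zero]
    rintro ⟨y, x⟩ h
    rw [hΦ] at h
    have key : ∀ (l : Fin f) (c : C) (j : Fin f),
        conR (φ l) (Sp * (c ⊗ₜ[k] v j)) = if j = l then U * c else 0 := fun l c j => by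
      rw [hexp₁, Finset.sum_mul, map_sum, Finset.sum_eq_single 0 (fun m hm hne => by
          rw [smul_mul_assoc, map_smul, Algebra.TensorProduct.tmul_mul_tmul, conR_tmul,
            hφ l _ j (by omega), if_neg (fun h => hne (by have := Finset.mem_range.1 hm; omega)), zero_smul, smul_zero])
          (fun h => absurd (Finset.mem_range.2 hp) h),
        smul_mul_assoc, map_smul, Algebra.TensorProduct.tmul_mul_tmul, conR_tmul, Nat.sub_zero, hφ l _ j (by omega),
        Nat.choose_zero_right, Nat.cast_one, one_smul, pow_zero, one_mul]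
      by_cases hj : j = l
      · rw [if_pos ⟨rfl, hj⟩, if_pos hj, one_smul]
      · rw [if_neg (fun h => hj h.2), if_neg hj, zero_smul]
    have key' : ∀ (l : Fin f) (c : C) (j : Fin f),
        conL (φ l) (Sp * (v j ⊗ₜ[k] c)) = if j = l then U * c else 0 := fun l c j => by
      rw [hexp₂, Finset.sum_mul, map_sum, Finset.sum_eq_single 0 (fun m hm hne => by
          rw [smul_mul_assoc, map_smul, Algebra.TensorProduct.tmul_mul_tmul, conL_tmul,
            hφ l _ j (by omega), if_neg (fun h => hne (by have := Finset.mem_range.1 hm; omega)), zero_smul, smul_zero])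
          (fun h => absurd (Finset.mem_range.2 hp) h),
        smul_mul_assoc, map_smul, Algebra.TensorProduct.tmul_mul_tmul, conL_tmul, Nat.sub_zero, hφ l _ j (by omega),
        Nat.choose_zero_right, Nat.cast_one, one_smul, pow_zero, one_mul]
      by_cases hj : j = l
      · rw [if_pos ⟨rfl, hj⟩, if_pos hj, one_smul]
      · rw [if_neg (fun h => hj h.2), if_neg hj, zero_smul]
    have hFy : ∀ (l : Fin f) (c : C) (j : Fin f), conR (φ l) (Sp * (v j ⊗ₜ[k] c)) ∈ F := fun l c j => by
      rw [hexp₂, Finset.sum_mul, map_sum]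
      refine F.sum_mem fun m _ => ?_
      rw [smul_mul_assoc, map_smul, Algebra.TensorProduct.tmul_mul_tmul, conR_tmul]
      refine F.smul_mem _ (F.smul_mem _ (hFT _ _ ?_))
      exact Submodule.subset_span ⟨(⟨0, hp⟩, j), by simp [e]⟩
    have hx : x = 0 := funext fun l => by
      have h1 := congrArg (conR (φ l)) h
      rw [mul_add, map_add, Finset.mul_sum, Finset.mul_sum, map_sum, map_sum, map_zero] at h1
      simp only [key, Finset.sum_ite_eq', Finset.mem_univ, if_true] at h1
      have hUx : U * (x l : C) ∈ F := by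
        rw [eq_neg_of_add_eq_zero_right h1]
        exact F.neg_mem (F.sum_mem fun j _ => hFy l _ j)
      have hmem : (x l : C) ∈ F := by
        obtain ⟨w, hw⟩ := hU
        have hUF : ∀ (c : C), c ∈ F → (↑w⁻¹ : C) * c ∈ F := by
          have hsub : ∀ c ∈ F, U * c ∈ F := fun c hc => by
            have : U * c = ∑ m ∈ Finset.range (p - 1 + 1), (lam ^ m * ((p - 1).choose m : k)) • (T ^ m * c) := by
              show (1 + lam • T) ^ (p - 1) * c = _
              rw [add_comm, add_pow, Finset.sum_mul]
              refine Finset.sum_congr rfl fun m _ => ?_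
              rw [one_pow, mul_one, smul_pow, ← nsmul_eq_mul', ← Nat.cast_smul_eq_nsmul k, smul_smul, smul_mul_assoc,
                mul_comm (lam ^ m)]
            rw [this]
            exact F.sum_mem fun m _ => F.smul_mem _ (hFT _ _ hc)
          intro c hc
          let L : F →ₗ[k] F := (LinearMap.mulLeft k U).restrict hsub
          have hL : Function.Injective L := fun a b hab => Subtype.ext ((w.mul_right_inj).1 (by
            have := congrArg Subtype.val hab
            simp only [L, LinearMap.restrict_coe_apply, LinearMap.mulLeft_apply] at this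
            rw [hw]; exact this))
          obtain ⟨d, hd⟩ := (LinearMap.injective_iff_surjective.1 hL) ⟨c, hc⟩
          have : (↑w⁻¹ : C) * c = (d : C) := by
            have hd' : U * (d : C) = c := congrArg Subtype.val hd
            rw [← hd']
            rw [← hw, ← mul_assoc, Units.inv_mul, one_mul]
          rw [this]; exact d.2
        have := hUF _ hUx
        rwa [← hw, ← mul_assoc, Units.inv_mul, one_mul] at this
      exact Subtype.ext ((Submodule.disjoint_def.1 hX.disjoint) _ hmem (x l).2)
    refine Prod.ext (funext fun l => ?_) hx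
    have h1 := congrArg (conL (φ l)) h
    rw [hx, mul_add, map_add, Finset.mul_sum, map_sum, map_zero] at h1
    simp only [key', Finset.sum_ite_eq', Finset.mem_univ, if_true, Pi.zero_apply, ZeroMemClass.coe_zero,
      TensorProduct.zero_tmul, Finset.sum_const_zero, mul_zero, map_zero, add_zero] at h1
    exact hU.mul_right_eq_zero.1 h1
  -- the comparison
  let Θ := AlgEquiv.ofBijective _ hΘ
  have himage : LinearMap.range (LinearMap.mulLeft k Sp) =
      (LinearMap.range (LinearMap.lTensor C (LinearMap.mulLeft k (T ^ (p - 1))))).map Θ.toLinearMap := by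
    rw [← LinearMap.range_comp]
    rw [← LinearMap.range_comp_of_range_eq_top (f := Θ.toLinearMap) (LinearMap.mulLeft k Sp)
      (LinearMap.range_eq_top.2 Θ.surjective)]
    congr 1
    refine TensorProduct.ext' fun a c => ?_
    simp [Θ, Sp, map_mul, map_pow, mul_left_comm]
  have hub : Module.finrank k (LinearMap.range (LinearMap.mulLeft k Sp)) ≤ Module.finrank k C * f := by
    rw [himage]
    refine (Submodule.finrank_map_le _ _).trans ?_
    rw [← Module.finrank_tensorProduct (R := k)]
    refine le_trans (Submodule.finrank_mono ?_) (LinearMap.finrank_range_le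
      (LinearMap.lTensor C I.subtype : C ⊗[k] I →ₗ[k] C ⊗[k] C))
    rw [← LinearMap.subtype_comp_codRestrict (LinearMap.mulLeft k (T ^ (p - 1))) I fun c => ⟨c, rfl⟩,
      LinearMap.lTensor_comp]
    exact LinearMap.range_comp_le_range _ _
  have hlb : f * Module.finrank k C + f * Module.finrank k X ≤ Module.finrank k C * f := by
    refine le_trans (le_of_eq ?_) (le_trans (LinearMap.finrank_range_of_inj hinj ▸
      Submodule.finrank_mono (LinearMap.range_comp_le_range _ _)) hub)
    simp [Module.finrank_prod, Module.finrank_pi_fintype, Finset.card_univ]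
  have hXdim : Module.finrank k X = 0 := by
    have h0 : f * Module.finrank k X = 0 := by rw [mul_comm (Module.finrank k C) f] at hlb; omega
    exact (mul_eq_zero.1 h0).resolve_left hfpos.ne'
  have := Submodule.finrank_add_eq_of_isCompl hX
  omega

end Field

section Translate

open WithConv

variable {R : Type*} [CommRing R] {A : Type*} [CommRing A] [HopfAlgebra R A]

/-- The translation automorphism of the square of a group. -/
theorem translate_bijective :
    Function.Bijective (Algebra.TensorProduct.lift (Algebra.TensorProduct.includeLeft : A →ₐ[R] A ⊗[R] A)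
      (Bialgebra.comulAlgHom R A) fun _ _ => Commute.all _ _) := by
  let iL : A →ₐ[R] A ⊗[R] A := Algebra.TensorProduct.includeLeft
  let iR : A →ₐ[R] A ⊗[R] A := Algebra.TensorProduct.includeRight
  have hΔ : toConv iL * toConv iR = toConv (Bialgebra.comulAlgHom R A) := by
    refine ofConv_injective (AlgHom.ext fun a => ?_)
    obtain ⟨s, hs⟩ := TensorProduct.exists_finset (Coalgebra.comul (R := R) a)
    rw [AlgHom.convMul_apply, hs]
    simp [iL, iR, hs]
  let J : WithConv (A →ₐ[R] A ⊗[R] A) := toConv (iL.comp (HopfAlgebra.antipodeAlgHom R A))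
  have hone : toConv (iL.comp (1 : WithConv (A →ₐ[R] A)).ofConv) = 1 := by
    refine ofConv_injective (AlgHom.ext fun a => ?_)
    simp only [ofConv_toConv, AlgHom.comp_apply, AlgHom.convOne_apply, AlgHom.commutes]
  have hidS : toConv (AlgHom.id R A) * toConv (HopfAlgebra.antipodeAlgHom R A) = 1 := by
    apply ofConv_injective
    apply AlgHom.toLinearMap_injective
    apply toConv_injective
    rw [AlgHom.toLinearMap_convMul, AlgHom.toLinearMap_convOne]
    simp [LinearMap.id_mul_antipode]
  have hcomp : ∀ f g : WithConv (A →ₐ[R] A),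
      toConv (iL.comp (f * g).ofConv) = toConv (iL.comp f.ofConv) * toConv (iL.comp g.ofConv) := fun f g => by
    refine ofConv_injective ?_
    rw [ofConv_toConv]
    exact AlgHom.comp_convMul_distrib iL f g
  have hJl : J * toConv iL = 1 := by
    have h := hcomp (toConv (HopfAlgebra.antipodeAlgHom R A)) (toConv (AlgHom.id R A))
    rw [AlgHom.antipode_id_cancel, hone, ofConv_toConv, ofConv_toConv, AlgHom.comp_id] at h
    exact h.symm
  have hJr : toConv iL * J = 1 := by
    have h := hcomp (toConv (AlgHom.id R A)) (toConv (HopfAlgebra.antipodeAlgHom R A))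
    rw [hidS, hone, ofConv_toConv, ofConv_toConv, AlgHom.comp_id] at h
    exact h.symm
  let θ := Algebra.TensorProduct.lift iL (Bialgebra.comulAlgHom R A) fun _ _ => Commute.all _ _
  let θ' := Algebra.TensorProduct.lift iL (J * toConv iR).ofConv fun _ _ => Commute.all _ _
  have hθL : θ.comp iL = iL := Algebra.TensorProduct.lift_comp_includeLeft _ _ (fun _ _ => Commute.all _ _)
  have hθR : θ.comp iR = Bialgebra.comulAlgHom R A := Algebra.TensorProduct.lift_comp_includeRight _ _ (fun _ _ => Commute.all _ _)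
  have hθ'L : θ'.comp iL = iL := Algebra.TensorProduct.lift_comp_includeLeft _ _ (fun _ _ => Commute.all _ _)
  have hθ'R : θ'.comp iR = (J * toConv iR).ofConv := Algebra.TensorProduct.lift_comp_includeRight _ _ (fun _ _ => Commute.all _ _)
  have hd : ∀ (h : A ⊗[R] A →ₐ[R] A ⊗[R] A) (f g : WithConv (A →ₐ[R] A ⊗[R] A)),
      toConv (h.comp (f * g).ofConv) = toConv (h.comp f.ofConv) * toConv (h.comp g.ofConv) := fun h f g =>
    congrArg toConv (AlgHom.comp_convMul_distrib h f g)
  have h1 : θ'.comp (θ.comp iR) = iR := by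
    rw [hθR]
    apply toConv_injective
    rw [show toConv (θ'.comp (Bialgebra.comulAlgHom R A)) = _ from
      (congrArg (fun z : WithConv (A →ₐ[R] A ⊗[R] A) => toConv (θ'.comp z.ofConv)) hΔ).symm.trans (hd θ' _ _)]
    simp only [ofConv_toConv, hθ'L, hθ'R, toConv_ofConv]
    rw [← _root_.mul_assoc, hJr, _root_.one_mul]
  have h2 : θ.comp (θ'.comp iR) = iR := by
    rw [hθ'R]
    apply toConv_injective
    have hinv : toConv (θ.comp J.ofConv) = J := by
      refine congrArg toConv ?_
      show θ.comp (iL.comp _) = iL.comp _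
      rw [← AlgHom.comp_assoc, hθL]
    rw [hd, hinv, ofConv_toConv, hθR, ← hΔ]
    rw [← _root_.mul_assoc, hJl, _root_.one_mul]
  have hsplit : ∀ a b : A, a ⊗ₜ[R] b = iL a * iR b := fun a b => by simp [iL, iR]
  have h1' : ∀ z, θ' (θ z) = z := fun z => by
    induction z using TensorProduct.induction_on with
    | zero => rw [map_zero, map_zero]
    | add x y hx hy => rw [map_add, map_add, hx, hy]
    | tmul a b =>
      rw [hsplit, map_mul, map_mul]
      exact congrArg₂ (· * ·) ((congrArg θ' congr($hθL a)).trans congr($hθ'L a)) congr($h1 b)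
  have h2' : ∀ z, θ (θ' z) = z := fun z => by
    induction z using TensorProduct.induction_on with
    | zero => rw [map_zero, map_zero]
    | add x y hx hy => rw [map_add, map_add, hx, hy]
    | tmul a b =>
      rw [hsplit, map_mul, map_mul]
      exact congrArg₂ (· * ·) ((congrArg θ congr($hθ'L a)).trans congr($hθL a)) congr($h2 b)
  exact ⟨Function.LeftInverse.injective h1', Function.RightInverse.surjective h2'⟩

end Translate

section Span

open Polynomial

variable {R : Type u} [CommRing R] [IsDomain R] [IsDiscreteValuationRing R]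
  {K : Type u} [Field K] [Algebra R K] [IsFractionRing R K]
  {A : Type u} [CommRing A] [HopfAlgebra R A] [Module.Finite R A] [Module.Free R A]
  {p : ℕ} [hpf : Fact p.Prime] [CharP (IsLocalRing.ResidueField R) p]

omit [CharP (IsLocalRing.ResidueField R) p] in
/-- The defining polynomial splits along the roots of unity. -/
theorem psiPoly_eq_prod (lam : R) (hdiv : SekSuwa.DivCond lam p) (ζ : R) (hζ : IsPrimitiveRoot ζ p)
    (r : ZMod p → R) (hr : ∀ i : ZMod p, lam * r i = ζ ^ i.val - 1) :
    SekSuwa.psiPoly lam p hdiv = ∏ i : ZMod p, (X - C (r i)) := by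
  haveI : NeZero p := ⟨hpf.out.ne_zero⟩
  refine (SekSuwa.psiPoly_unique hdiv ?_).symm
  have hY := congrArg (fun P : R[X] => P.comp (1 + C lam * X))
    (X_pow_sub_C_eq_prod hζ hpf.out.pos (α := (1 : R)) (one_pow p))
  simp only [sub_comp, pow_comp, X_comp, C_comp, map_one, mul_one, one_comp, prod_comp] at hY
  rw [hY, map_pow, ← Fin.prod_univ_eq_prod_range]
  have hcard : (Finset.univ : Finset (ZMod p)).card = p := by rw [Finset.card_univ, ZMod.card]
  rw [show (C lam : R[X]) ^ p = ∏ _i : ZMod p, C lam by rw [Finset.prod_const, hcard], ← Finset.prod_mul_distrib]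
  refine Fintype.prod_equiv (ZMod.finEquiv p).toEquiv.symm _ _ fun i => ?_
  rw [mul_sub, ← map_mul, hr]
  simp only [map_sub, map_pow, map_one, RingEquiv.toEquiv_eq_coe]
  have : (((ZMod.finEquiv p).toEquiv.symm i : Fin p) : ℕ) = i.val := by
    obtain ⟨m, hm⟩ := Nat.exists_eq_succ_of_ne_zero hpf.out.ne_zero
    subst hm; rfl
  simp only [RingEquiv.toEquiv_eq_coe] at this
  rw [this]
  ring

omit [IsDomain R] [IsDiscreteValuationRing R] hpf [CharP (IsLocalRing.ResidueField R) p] in
/-- The coordinate ring of a congruence group is generated by its coordinate. -/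
theorem AK_generated (lam : R) {N : ℕ} (hN : 0 < N) (hdiv : SekSuwa.DivCond lam N) (x : SekSuwa.AK R lam N hdiv) :
    ∃ Q : R[X], aeval SekSuwa.AK.t Q = x := by
  have hinv : (SekSuwa.AK.inv : SekSuwa.AK R lam N hdiv) = (1 + lam • SekSuwa.AK.t) ^ (N - 1) := by
    refine left_inv_eq_right_inv (a := (1 + lam • SekSuwa.AK.t : SekSuwa.AK R lam N hdiv)) ?_ ?_
    · have h3 := congrArg (SekSuwa.AK.mkHom R lam N hdiv) (SekSuwa.A.inv_mul_u (R := R) (lam := lam))
      rw [map_mul, map_one, SekSuwa.AK.mkHom_u] at h3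
      exact h3
    · rw [← pow_succ', Nat.sub_add_cancel hN, SekSuwa.AK.u_pow]
  obtain ⟨z, rfl⟩ := Ideal.Quotient.mk_surjective (I := SekSuwa.kerIdeal lam N hdiv) x
  obtain ⟨w, rfl⟩ := Ideal.Quotient.mk_surjective (I := SekSuwa.Poly.relIdeal R lam) z
  let π₀ : SekSuwa.Poly R lam →ₐ[R] SekSuwa.AK R lam N hdiv :=
    (SekSuwa.AK.mkHom R lam N hdiv : SekSuwa.A R lam →ₐ[R] _).comp (SekSuwa.A.mk R lam)
  suffices h : π₀ w ∈ (aeval (R := R) (SekSuwa.AK.t : SekSuwa.AK R lam N hdiv)).range from h
  let S := (aeval (R := R) (SekSuwa.AK.t : SekSuwa.AK R lam N hdiv)).range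
  have ht : π₀ SekSuwa.Poly.x ∈ S := ⟨X, aeval_X _⟩
  have hy : π₀ SekSuwa.Poly.y ∈ S := ⟨(1 + C lam * X) ^ (N - 1), by
    show _ = (SekSuwa.AK.inv : SekSuwa.AK R lam N hdiv)
    rw [hinv]
    show aeval _ _ = _
    rw [map_pow, map_add, map_one, map_mul, aeval_C, aeval_X, Algebra.smul_def]⟩
  have := SekSuwa.Poly.algHom_ext (f := π₀)
    (g := S.val.comp (SekSuwa.Poly.aeval R lam (⟨_, ht⟩ : S) ⟨_, hy⟩)) (by simp) (by simp)
  rw [this]
  exact (SekSuwa.Poly.aeval R lam (⟨_, ht⟩ : S) ⟨_, hy⟩ w).2

/-- The powers of the coordinate form a basis of the coordinate ring of a congruence group. -/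
theorem AK_basis (lam : R) (hdiv : SekSuwa.DivCond lam p) (ζ : R) (hζ : IsPrimitiveRoot ζ p)
    (r : ZMod p → R) (hr : ∀ i : ZMod p, lam * r i = ζ ^ i.val - 1) :
    ∃ b : Module.Basis (Fin p) R (SekSuwa.AK R lam p hdiv), ∀ i, b i = SekSuwa.AK.t ^ (i : ℕ) := by
  haveI : NeZero p := ⟨hpf.out.ne_zero⟩
  obtain ⟨hfree, hfin, hrk⟩ := AK_free lam hpf.out.pos hdiv
  haveI := hfree
  haveI := hfin
  have hP := psiPoly_eq_prod lam hdiv ζ hζ r hr
  have hm : (SekSuwa.psiPoly lam p hdiv).Monic := hP ▸ monic_prod_X_sub_C r _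
  have hd : (SekSuwa.psiPoly lam p hdiv).natDegree = p := by
    rw [hP, natDegree_finset_prod_X_sub_C_eq_card, Finset.card_univ, ZMod.card]
  have hspan : ⊤ ≤ Submodule.span R (Set.range fun i : Fin p => (SekSuwa.AK.t : SekSuwa.AK R lam p hdiv) ^ (i : ℕ)) := by
    rintro x -
    obtain ⟨Q, rfl⟩ := AK_generated lam hpf.out.pos hdiv x
    rw [← modByMonic_add_div Q (SekSuwa.psiPoly lam p hdiv), map_add, map_mul, SekSuwa.AK.aeval_t, zero_mul, add_zero,
      aeval_eq_sum_range' (n := p) (lt_of_lt_of_eq (natDegree_modByMonic_lt _ hm (fun h => by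
        rw [h, natDegree_one] at hd; exact hpf.out.ne_zero hd.symm)) hd)]
    exact Submodule.sum_mem _ fun i hi =>
      Submodule.smul_mem _ _ (Submodule.subset_span ⟨⟨i, Finset.mem_range.1 hi⟩, rfl⟩)
  exact ⟨Module.Basis.mk (linearIndependent_of_top_le_span_of_card_eq_finrank hspan (by rw [Fintype.card_fin, hrk])) hspan,
    fun i => Module.Basis.mk_apply _ _ i⟩

/-- An order in the functions on a group of square-prime order is spanned by `p` elements over a congruence
subgroup algebra which is a direct summand. -/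
theorem exists_span {M : Type*} [AddGroup M] [Fintype M] (π : M → (A →ₐ[R] K)) (hfn : Function.Injective (fn π))
    (hcard : Fintype.card M = p * p) (hrk : Module.finrank R A = p * p)
    (χ : M →+ ZMod p) (hχ : Function.Surjective χ) (ζ : R) (hζ : IsPrimitiveRoot ζ p)
    (lam : R) (hdiv : SekSuwa.DivCond lam p) (hl0 : lam ≠ 0) (φ : SekSuwa.AK R lam p hdiv →ₐc[R] A)
    (l : A →ₗ[R] SekSuwa.AK R lam p hdiv) (hl : ∀ x, l (φ x) = x)
    (hπt : ∀ m, algebraMap R K lam * π m (φ SekSuwa.AK.t) = algebraMap R K ζ ^ (χ m).val - 1) :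
    ∃ v : Fin p → A, ∀ a, ∃ b : Fin p → SekSuwa.AK R lam p hdiv, a = ∑ j, φ (b j) * v j := by
  classical
  have hp : p.Prime := hpf.out
  haveI : NeZero p := ⟨hp.ne_zero⟩
  set t : A := φ SekSuwa.AK.t with ht
  let σ := Function.surjInv hχ
  have hint : ∀ i : ZMod p, ∃ r : R, algebraMap R K r = π (σ i) t := fun i =>
    IsIntegrallyClosed.isIntegral_iff.1 (((Algebra.IsIntegral.of_finite R A).isIntegral t).map (π (σ i)))
  choose r hr using hint
  have hrl : ∀ i : ZMod p, lam * r i = ζ ^ i.val - 1 := fun i => IsFractionRing.injective R K (by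
    rw [map_mul, hr, map_sub, map_pow, map_one, hπt, Function.surjInv_eq hχ])
  have hπr : ∀ m, π m t = algebraMap R K (r (χ m)) := fun m =>
    mul_left_cancel₀ (fun h => hl0 (IsFractionRing.injective R K (h.trans (map_zero _).symm)))
      ((hπt m).trans (by rw [← map_mul, hrl, map_sub, map_pow, map_one]))
  have hrinj : Function.Injective r := fun i j h => ZMod.val_injective p
    (hζ.pow_inj (ZMod.val_lt i) (ZMod.val_lt j) (sub_left_injective (by
      show ζ ^ i.val - 1 = ζ ^ j.val - 1
      rw [← hrl, ← hrl, h])))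
  have hassoc : ∀ i j i' j' : ZMod p, i ≠ j → i' ≠ j' → Associated (r i - r j) (r i' - r j') := by
    have key : ∀ i j : ZMod p, i ≠ j → Associated (lam * (r i - r j)) (ζ - 1) := fun i j hne => by
      rw [mul_sub, hrl, hrl, show ζ ^ i.val - 1 - (ζ ^ j.val - 1) = ζ ^ i.val - ζ ^ j.val by ring]
      have hmem : ∀ i : ZMod p, ζ ^ i.val ∈ (nthRootsFinset p (1 : R) : Set R) := fun i => by
        rw [Finset.mem_coe, Polynomial.mem_nthRootsFinset hp.pos, ← pow_mul, mul_comm, pow_mul, hζ.pow_eq_one, one_pow]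
      exact (hζ.nthRootsFinset_pairwise_associated_sub_one_sub_of_prime hp (hmem i) (hmem j)
        (fun h => hne (ZMod.val_injective p (hζ.pow_inj (ZMod.val_lt i) (ZMod.val_lt j) h)))).symm
    intro i j i' j' hne hne'
    exact ((key i j hne).trans (key i' j' hne').symm).of_mul_left (Associated.refl lam) hl0
  obtain ⟨bB, hbB⟩ := AK_basis lam hdiv ζ hζ r hrl
  let k := IsLocalRing.ResidueField R
  by_cases hnil : ∀ i, r i ∈ IsLocalRing.maximalIdeal R
  · -- the coordinate is nilpotent modulo the maximal ideal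
    let ι : A →ₐ[R] k ⊗[R] A := Algebra.TensorProduct.includeRight
    have hT : ι t ^ p = 0 := by
      have h := congrArg (ι.comp (φ : SekSuwa.AK R lam p hdiv →ₐ[R] A))
        (SekSuwa.AK.aeval_t (R := R) (lam := lam) (N := p) (h := hdiv))
      rw [map_zero, ← aeval_algHom_apply, psiPoly_eq_prod lam hdiv ζ hζ r hrl, map_prod] at h
      refine Eq.trans ?_ h
      have h0 : ∀ i, algebraMap R (k ⊗[R] A) (r i) = 0 := fun i => by
        rw [IsScalarTower.algebraMap_apply R k, IsLocalRing.ResidueField.algebraMap_eq,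
          (IsLocalRing.residue_eq_zero_iff _).2 (hnil i), map_zero]
      simp only [map_sub, aeval_X, aeval_C, h0, sub_zero, Finset.prod_const, Finset.card_univ, ZMod.card]
      rfl
    have hT0 : ι t ^ (p - 1) ≠ 0 := fun h0 => by
      have h1 := congrArg (LinearMap.baseChange k l) h0
      rw [map_zero, ← map_pow] at h1
      simp only [ι, Algebra.TensorProduct.includeRight_apply, LinearMap.baseChange_tmul] at h1
      rw [ht, ← map_pow, hl, ← hbB ⟨p - 1, by have := hp.two_le; omega⟩, ← Module.Basis.baseChange_apply] at h1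
      exact (bB.baseChange k).ne_zero _ h1
    have hfr : Module.finrank k (k ⊗[R] A) = p * p := by rw [Module.finrank_baseChange, hrk]
    obtain ⟨f, v, hf, hli⟩ := finrank_range_pow (k := k) (C := k ⊗[R] A) (ι t) hp.pos hT (algebraMap R k lam) hT0
      (Bialgebra.comulAlgHom k (k ⊗[R] A)) translate_bijective (by
        have hc : Coalgebra.comul (R := R) t = t ⊗ₜ[R] 1 + 1 ⊗ₜ[R] t + lam • (t ⊗ₜ[R] t) := by
          rw [ht, ← CoalgHomClass.map_comp_comul_apply φ, SekSuwa.AK.comul_t]
          simp
        show Coalgebra.comul (R := k) ((1 : k) ⊗ₜ[R] t) = _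
        rw [TensorProduct.comul_tmul, hc]
        simp only [TensorProduct.tmul_add, TensorProduct.tmul_smul, map_add, LinearMap.map_smul_of_tower]
        simp only [ι, Algebra.TensorProduct.includeRight_apply, algebraMap_smul, CommSemiring.comul_apply,
          Algebra.TensorProduct.one_def, TensorProduct.AlgebraTensorModule.tensorTensorTensorComm_tmul]
        rw [TensorProduct.smul_tmul', TensorProduct.smul_tmul']
        simp [TensorProduct.smul_tmul']
        )
    have hfp : f = p := Nat.eq_of_mul_eq_mul_left hp.pos (hf.symm.trans hfr)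
    subst hfp
    choose w hw using fun j => Algebra.TensorProduct.includeRight_surjective A IsLocalRing.residue_surjective (v j)
    refine ⟨w, fun a => ?_⟩
    have hli' : LinearIndependent k fun ij : Fin f × Fin f => ι (t ^ (ij.1 : ℕ) * w ij.2) := by
      have h2 : (fun ij : Fin f × Fin f => ι (t ^ (ij.1 : ℕ) * w ij.2)) = fun ij => ι t ^ (ij.1 : ℕ) * v ij.2 :=
        funext fun ij => by
          rw [map_mul, map_pow]
          exact congrArg _ (hw ij.2)
      rw [h2]
      exact hli
    haveI : Nonempty (Fin f × Fin f) := ⟨(⟨0, hp.pos⟩, ⟨0, hp.pos⟩)⟩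
    have hspan := IsLocalRing.span_eq_top_of_tmul_eq_basis (R := R) (fun ij : Fin f × Fin f => t ^ (ij.1 : ℕ) * w ij.2)
      (basisOfLinearIndependentOfCardEqFinrank hli' (by rw [Fintype.card_prod, Fintype.card_fin]; exact hfr.symm))
      (fun ij => (congrFun (coe_basisOfLinearIndependentOfCardEqFinrank hli' _) ij).symm)
    obtain ⟨c, hc⟩ := (Submodule.mem_span_range_iff_exists_fun R).1 (hspan ▸ (Submodule.mem_top : a ∈ ⊤))
    refine ⟨fun j => ∑ i, c (i, j) • bB i, ?_⟩
    rw [← hc, Fintype.sum_prod_type, Finset.sum_comm]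
    refine Finset.sum_congr rfl fun j _ => ?_
    rw [map_sum, Finset.sum_mul]
    refine Finset.sum_congr rfl fun i _ => ?_
    rw [map_smul, hbB, map_pow, ← ht, smul_mul_assoc]
  · -- the coordinate separates the cosets modulo the maximal ideal
    push Not at hnil
    obtain ⟨i₁, hi₁⟩ := hnil
    have hr0 : r 0 = 0 := mul_left_cancel₀ hl0 (by rw [hrl, ZMod.val_zero, pow_zero, sub_self, mul_zero])
    have hi₁0 : i₁ ≠ 0 := by rintro rfl; exact hi₁ (hr0 ▸ Submodule.zero_mem _)
    have hu : ∀ i j : ZMod p, i ≠ j → IsUnit (r i - r j) := fun i j hne =>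
      (hassoc i j i₁ 0 hne hi₁0).symm.isUnit (by rw [hr0, sub_zero]; exact IsLocalRing.notMem_maximalIdeal.1 hi₁)
    have hu' : ∀ i, IsUnit (∏ j ∈ Finset.univ.erase i, (r i - r j)) := fun i =>
      IsUnit.prod_iff.2 fun j hj => hu i j (Ne.symm (Finset.ne_of_mem_erase hj))
    let Q : ZMod p → R[X] := fun i =>
      C (↑(hu' i).unit⁻¹ : R) * ∏ j ∈ Finset.univ.erase i, (X - C (r j))
    have hQ : ∀ i j, (Q i).eval (r j) = if i = j then 1 else 0 := fun i j => by
      simp only [Q, eval_mul, eval_C, eval_prod, eval_sub, eval_X]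
      split_ifs with h
      · subst h; exact (hu' i).val_inv_mul
      · rw [Finset.prod_eq_zero (f := fun x => r j - r x) (Finset.mem_erase.2 ⟨Ne.symm h, Finset.mem_univ j⟩) (sub_self _), mul_zero]
    let e : ZMod p → SekSuwa.AK R lam p hdiv := fun i => aeval SekSuwa.AK.t (Q i)
    have hπe : ∀ m i, π m (φ (e i)) = if i = χ m then 1 else 0 := fun m i => by
      simp only [e]
      rw [show φ (aeval SekSuwa.AK.t (Q i)) = aeval t (Q i) from
          (aeval_algHom_apply (φ : SekSuwa.AK R lam p hdiv →ₐ[R] A) _ _).symm,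
        ← aeval_algHom_apply, hπr, aeval_algebraMap_apply, coe_aeval_eq_eval, hQ]
      split_ifs <;> simp
    let L : ZMod p → Submodule R A := fun i => LinearMap.range (LinearMap.mulLeft R (φ (e i)))
    have hL : ∀ i, Module.finrank R (L i) ≤ p := fun i => by
      let bL := Module.finBasis R (L i)
      let Φ : A →ₗ[R] ({m : M // χ m = i} → K) := LinearMap.pi fun m => (π m.1).toLinearMap
      have hΦ : Function.Injective (Φ ∘ₗ (L i).subtype) := by
        rw [injective_iff_map_eq_zero]
        rintro ⟨_, ⟨y, rfl⟩⟩ hy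
        refine Subtype.ext (hfn (funext fun m => ?_))
        refine Eq.trans ?_ (congrFun (map_zero (fn π)) m).symm
        show π m (φ (e i) * y) = 0
        by_cases hm : χ m = i
        · exact congrFun hy ⟨m, hm⟩
        · rw [map_mul, hπe, if_neg (Ne.symm hm), zero_mul]
      have hliK : LinearIndependent K fun a => (Φ ∘ₗ (L i).subtype) (bL a) :=
        (LinearIndependent.iff_fractionRing R K).1 (bL.linearIndependent.map' _ (LinearMap.ker_eq_bot.2 hΦ))
      have h1 := hliK.fintype_card_le_finrank
      rw [Fintype.card_fin, Module.finrank_fintype_fun_eq_card] at h1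
      refine h1.trans (le_of_eq ?_)
      have hfib : ∀ j, Fintype.card {m : M // χ m = j} = Fintype.card {m : M // χ m = i} := fun j =>
        Fintype.card_congr
          { toFun := fun m => ⟨σ i - σ j + m.1, by rw [map_add, map_sub, Function.surjInv_eq hχ, Function.surjInv_eq hχ, m.2, sub_add_cancel]⟩
            invFun := fun m => ⟨σ j - σ i + m.1, by rw [map_add, map_sub, Function.surjInv_eq hχ, Function.surjInv_eq hχ, m.2, sub_add_cancel]⟩
            left_inv := fun m => Subtype.ext (by simp [← add_assoc])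
            right_inv := fun m => Subtype.ext (by simp [← add_assoc]) }
      have h2 := Fintype.card_congr (Equiv.sigmaFiberEquiv (χ : M → ZMod p))
      rw [Fintype.card_sigma, Finset.sum_congr rfl (fun j _ => hfib j), Finset.sum_const, Finset.card_univ, ZMod.card,
        smul_eq_mul, hcard] at h2
      exact Nat.eq_of_mul_eq_mul_left hp.pos h2
    have hsum : ∀ a : A, ∑ i, φ (e i) * a = a := fun a => hfn (funext fun m => by
      simp only [fn_apply, map_sum, map_mul, hπe, Finset.sum_mul, ite_mul, one_mul, zero_mul,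
        Finset.sum_ite_eq', Finset.mem_univ, if_true])
    have hge : p * p ≤ ∑ i, Module.finrank R (L i) := by
      let S : (∀ i, L i) →ₗ[R] A := ∑ i, (L i).subtype ∘ₗ LinearMap.proj i
      have hS : Function.Surjective S := fun a =>
        ⟨fun i => ⟨φ (e i) * a, a, rfl⟩, by simp [S, hsum a]⟩
      have := LinearMap.finrank_le_finrank_of_surjective hS
      rwa [hrk, Module.finrank_pi_fintype] at this
    have hLp : ∀ i, Module.finrank R (L i) = p := by
      have := (Finset.sum_eq_sum_iff_of_le (fun i _ => hL i)).1 (le_antisymm (Finset.sum_le_sum fun i _ => hL i)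
        (le_trans (le_of_eq (by simp)) hge))
      exact fun i => this i (Finset.mem_univ i)
    let bL : ∀ i, Module.Basis (Fin p) R (L i) := fun i => Module.finBasisOfFinrankEq R (L i) (hLp i)
    refine ⟨fun j => ∑ i, (bL i j : A), fun a => ?_⟩
    let c : ZMod p → Fin p → R := fun i j => (bL i).repr ⟨φ (e i) * a, a, rfl⟩ j
    refine ⟨fun j => ∑ i, c i j • e i, ?_⟩
    conv_lhs => rw [← hsum a]
    have horth : ∀ i i' j, φ (e i) * (bL i' j : A) = if i = i' then (bL i' j : A) else 0 := fun i i' j => by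
      obtain ⟨y, hy⟩ := (bL i' j).2
      rw [← hy]
      refine hfn (funext fun m => ?_)
      simp only [fn_apply, LinearMap.mulLeft_apply, map_mul, hπe, apply_ite (π m), map_zero]
      split_ifs <;> simp_all
    calc ∑ i, φ (e i) * a = ∑ i, ∑ j, c i j • (bL i j : A) := Finset.sum_congr rfl fun i _ => by
          have := congrArg (L i).subtype ((bL i).sum_repr ⟨φ (e i) * a, a, rfl⟩)
          simp only [map_sum, map_smul, Submodule.subtype_apply] at this
          exact this.symm
      _ = _ := by
          rw [Finset.sum_comm]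
          refine Finset.sum_congr rfl fun j _ => ?_
          simp only [map_sum, map_smul, Finset.sum_mul, Finset.mul_sum, smul_mul_assoc, horth, smul_ite, smul_zero,
            Finset.sum_ite_eq, Finset.sum_ite_eq', Finset.mem_univ, if_true]

end Span

end GrothLib.SekSuwa
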