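import Groth.Agent.Lib.SekSuwa.Order
import Mathlib.RingTheory.TensorProduct.Quotient
import Mathlib.LinearAlgebra.Dual.Lemmas
import Mathlib.RingTheory.Flat.Domain
import Mathlib.RingTheory.FiniteLength

/-!
Hopf orders containing a grouplike element of prime order are the congruence groups.
-/

universe u

open TensorProduct Polynomial

noncomputable section

namespace GrothLib.SekSuwa

section Residue

variable {k : Type*} [Field k] {C : Type*} [CommRing C] [Algebra k C]

/-- The functional picking one power below the degree of the minimal polynomial. -/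
theorem exists_dual (x : C) (i : Fin (minpoly k x).natDegree) :
    ∃ f : C →ₗ[k] k, ∀ j < (minpoly k x).natDegree, f (x ^ j) = if j = i then 1 else 0 := by
  classical
  have hli := linearIndependent_pow (K := k) x
  obtain ⟨s, hs⟩ := LinearMap.exists_leftInverse_of_injective
    (Finsupp.linearCombination k fun i : Fin (minpoly k x).natDegree => x ^ (i : ℕ)) (LinearMap.ker_eq_bot.2 hli)
  refine ⟨Finsupp.lapply i ∘ₗ s, fun j hj => ?_⟩
  have h := congr($hs (Finsupp.single ⟨j, hj⟩ (1 : k)))
  simp only [LinearMap.comp_apply, Finsupp.linearCombination_single, one_smul, LinearMap.id_apply] at h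
  rw [LinearMap.comp_apply, h]
  simp [Finsupp.single_apply, Fin.ext_iff]

/-- The contraction with two functionals. -/
def pair (f g : C →ₗ[k] k) : C ⊗[k] C →ₗ[k] k :=
  (TensorProduct.lid k k).toLinearMap ∘ₗ TensorProduct.map f g

theorem pair_tmul (f g : C →ₗ[k] k) (a b : C) : pair f g (a ⊗ₜ[k] b) = f a * g b := by simp [pair]

/-- A primitive element whose degree is prime to the characteristic is constant. -/
theorem natDegree_le_one_of_primitive (x : C) (hx : IsIntegral k x)
    (h : aeval (x ⊗ₜ[k] (1 : C) + (1 : C) ⊗ₜ[k] x) (minpoly k x) = 0)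
    (hd : ((minpoly k x).natDegree : k) ≠ 0) : (minpoly k x).natDegree ≤ 1 := by
  by_contra! hd2
  set d := (minpoly k x).natDegree with hd'
  obtain ⟨f, hf⟩ := exists_dual (k := k) x ⟨d - 1, show d - 1 < d by omega⟩
  obtain ⟨g, hg⟩ := exists_dual x ⟨1, hd2⟩
  have hf0 : f 1 = 0 := by
    have := hf 0 (by omega)
    rwa [pow_zero, if_neg (by simp; omega)] at this
  have hg0 : g 1 = 0 := by
    have := hg 0 (by omega)
    rwa [pow_zero, if_neg (by simp)] at this
  have h1 := congrArg (pair f g) h
  rw [map_zero, aeval_eq_sum_range, map_sum] at h1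
  have hterm : ∀ n ∈ Finset.range (d + 1), pair f g ((minpoly k x).coeff n • (x ⊗ₜ[k] (1 : C) + (1 : C) ⊗ₜ[k] x) ^ n) =
      if n = d then (d : k) else 0 := by
    intro n hn
    rw [Finset.mem_range] at hn
    rw [map_smul, add_pow, map_sum, smul_eq_mul]
    have hz : ∀ m ∈ Finset.range (n + 1), ¬ (n = d ∧ m = d - 1) → pair f g
        ((x ⊗ₜ[k] (1 : C)) ^ m * ((1 : C) ⊗ₜ[k] x) ^ (n - m) * (n.choose m : C ⊗[k] C)) = 0 := by
      intro m hm hnm
      rw [Finset.mem_range] at hm
      rw [← nsmul_eq_mul', map_nsmul, Algebra.TensorProduct.tmul_pow, Algebra.TensorProduct.tmul_pow,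
        Algebra.TensorProduct.tmul_mul_tmul, one_pow, one_pow, mul_one, one_mul, pair_tmul]
      rcases eq_or_ne m 0 with rfl | hm0
      · rw [pow_zero, hf0, zero_mul, smul_zero]
      rcases eq_or_ne (n - m) 0 with hnm0 | hnm0
      · rw [hnm0, pow_zero, hg0, mul_zero, smul_zero]
      rw [hf m (by omega), hg (n - m) (by omega)]
      by_cases h1 : m = d - 1
      · rw [if_neg (show ¬ n - m = 1 by omega), mul_zero, smul_zero]
      · rw [if_neg h1, zero_mul, smul_zero]
    split_ifs with hnd
    · subst hnd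
      rw [Finset.sum_eq_single (d - 1) (fun m hm hne => hz m hm (fun h => hne h.2))
        (fun h => absurd (Finset.mem_range.2 (by omega)) h), show (minpoly k x).coeff d = 1 from (minpoly.monic hx).coeff_natDegree,
        one_mul, ← nsmul_eq_mul', map_nsmul, Algebra.TensorProduct.tmul_pow, Algebra.TensorProduct.tmul_pow,
        Algebra.TensorProduct.tmul_mul_tmul, one_pow, one_pow, mul_one, one_mul, pair_tmul,
        hf (d - 1) (by omega), hg (d - (d - 1)) (by omega), if_pos rfl,
        if_pos (show d - (d - 1) = 1 by omega), mul_one, Nat.choose_symm (show 1 ≤ d by omega), Nat.choose_one_right,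
        nsmul_eq_mul, mul_one]
    · rw [Finset.sum_eq_zero (fun m hm => hz m hm (fun h => hnd h.1)), mul_zero]
  rw [Finset.sum_congr rfl hterm, Finset.sum_ite_eq' (Finset.range (d + 1)) d, if_pos (Finset.self_mem_range_succ d)] at h1
  exact hd h1

/-- The minimal polynomial of a grouplike element. -/
theorem exists_pow_eq_of_grouplike [Nontrivial C] (x : C) (hx : IsIntegral k x)
    (h : aeval (x ⊗ₜ[k] x) (minpoly k x) = 0) (h1 : (minpoly k x).eval 1 = 0) :
    ∃ i < (minpoly k x).natDegree, x ^ (minpoly k x).natDegree = x ^ i := by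
  set d := (minpoly k x).natDegree with hd'
  have hq : ∀ i < d, ∀ j < d, (minpoly k x).coeff i * (minpoly k x).coeff j + (if i = j then (minpoly k x).coeff i else 0) = 0 := by
    intro i hi j hj
    obtain ⟨f, hf⟩ := exists_dual x ⟨i, hi⟩
    obtain ⟨g, hg⟩ := exists_dual x ⟨j, hj⟩
    have hp := congrArg (pair f g) h
    rw [map_zero, aeval_eq_sum_range, map_sum, Finset.sum_range_succ] at hp
    have hlt : ∀ n ∈ Finset.range d, pair f g ((minpoly k x).coeff n • (x ⊗ₜ[k] x) ^ n) =
        if n = i then (if i = j then (minpoly k x).coeff i else 0) else 0 := fun n hn => by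
      rw [map_smul, Algebra.TensorProduct.tmul_pow, pair_tmul, hf n (Finset.mem_range.1 hn),
        hg n (Finset.mem_range.1 hn), smul_eq_mul]
      split_ifs <;> simp_all
    have hxd : x ^ d = -∑ n ∈ Finset.range d, (minpoly k x).coeff n • x ^ n := by
      have := minpoly.aeval k x
      rw [aeval_eq_sum_range, Finset.sum_range_succ, show (minpoly k x).coeff d = 1 from (minpoly.monic hx).coeff_natDegree,
        one_smul] at this
      exact eq_neg_of_add_eq_zero_right this
    have hfd : ∀ (φ : C →ₗ[k] k) (i : ℕ), i < d → (∀ n < d, φ (x ^ n) = if n = i then 1 else 0) →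
        φ (x ^ d) = -(minpoly k x).coeff i := fun φ i hi hφ => by
      rw [hxd, map_neg, map_sum, Finset.sum_eq_single i (fun n hn hne => by
        rw [map_smul, hφ n (Finset.mem_range.1 hn), if_neg hne, smul_zero])
        (fun h => absurd (Finset.mem_range.2 hi) h), map_smul, hφ i hi, if_pos rfl, smul_eq_mul, mul_one]
    rw [Finset.sum_congr rfl hlt, Finset.sum_ite_eq' (Finset.range d) i, if_pos (Finset.mem_range.2 hi),
      map_smul, Algebra.TensorProduct.tmul_pow, pair_tmul, hfd f i hi hf, hfd g j hj hg,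
      show (minpoly k x).coeff d = 1 from (minpoly.monic hx).coeff_natDegree, one_smul, neg_mul_neg, add_comm] at hp
    exact hp
  have hne : ∃ i < d, (minpoly k x).coeff i ≠ 0 := by
    by_contra! hall
    rw [eval_eq_sum_range, Finset.sum_range_succ, Finset.sum_eq_zero (fun n hn => by
      rw [hall n (Finset.mem_range.1 hn), zero_mul]), show (minpoly k x).coeff d = 1 from (minpoly.monic hx).coeff_natDegree] at h1
    simp at h1
  obtain ⟨i, hi, hqi⟩ := hne
  refine ⟨i, hi, ?_⟩
  have hqi' : (minpoly k x).coeff i = -1 := by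
    have := hq i hi i hi
    rw [if_pos rfl] at this
    exact eq_neg_of_add_eq_zero_left ((mul_right_injective₀ hqi) (by simp only [mul_add, mul_one, mul_zero]; exact this))
  have hoth : ∀ n < d, n ≠ i → (minpoly k x).coeff n = 0 := fun n hn hne => by
    have := hq i hi n hn
    rw [if_neg hne.symm, add_zero, hqi'] at this
    simpa using this
  have := minpoly.aeval k x
  rw [aeval_eq_sum_range, Finset.sum_range_succ, show (minpoly k x).coeff d = 1 from (minpoly.monic hx).coeff_natDegree,
    one_smul, Finset.sum_eq_single i (fun n hn hne => by rw [hoth n (Finset.mem_range.1 hn) hne, zero_smul])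
    (fun h => absurd (Finset.mem_range.2 hi) h), hqi', neg_smul, one_smul, neg_add_eq_zero] at this
  exact this.symm

end Residue

section Main

variable {R : Type u} [CommRing R] [IsDomain R] [IsDiscreteValuationRing R]
  {K : Type u} [Field K] [Algebra R K] [IsFractionRing R K]
  {A : Type u} [CommRing A] [HopfAlgebra R A] [Module.Finite R A] [Module.Free R A]
  {p : ℕ} [hpf : Fact p.Prime] [CharP (IsLocalRing.ResidueField R) p]

/-- The coordinate ring of a congruence group is free. -/
theorem AK_free (lam : R) {N : ℕ} (hN : 0 < N) (hdiv : SekSuwa.DivCond lam N) :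
    Module.Free R (SekSuwa.AK R lam N hdiv) ∧ Module.Finite R (SekSuwa.AK R lam N hdiv) ∧
      Module.finrank R (SekSuwa.AK R lam N hdiv) = N := by
  obtain ⟨hflat, hfin⟩ : Module.Flat R (SekSuwa.AK R lam N hdiv) ∧ Module.Finite R (SekSuwa.AK R lam N hdiv) := by
    have h := (Groth.Agent.S14694.result R lam N hN hdiv).1
    obtain ⟨hf, hfl, -⟩ := h
    change AlgebraicGeometry.IsFinite (AlgebraicGeometry.Spec.map (CommRingCat.ofHom (algebraMap R (SekSuwa.AK R lam N hdiv)))) at hf
    rw [AlgebraicGeometry.IsFinite.SpecMap_iff] at hf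
    change AlgebraicGeometry.Flat (AlgebraicGeometry.Spec.map (CommRingCat.ofHom (algebraMap R (SekSuwa.AK R lam N hdiv)))) at hfl
    rw [AlgebraicGeometry.HasRingHomProperty.Spec_iff (P := @AlgebraicGeometry.Flat)] at hfl
    exact ⟨RingHom.flat_algebraMap_iff.mp hfl, RingHom.finite_algebraMap.mp hf⟩
  haveI := hflat
  haveI := hfin
  haveI hfree : Module.Free R (SekSuwa.AK R lam N hdiv) := Module.free_of_flat_of_isLocalRing
  refine ⟨hfree, hfin, ?_⟩
  have h := (Groth.Agent.S14694.result R lam N hN hdiv).2 ⟨⊥, Ideal.isPrime_bot⟩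
  change AlgebraicGeometry.Scheme.Hom.finrank (AlgebraicGeometry.Spec.map (CommRingCat.ofHom (algebraMap R (SekSuwa.AK R lam N hdiv)))) _ = N at h
  rw [AlgebraicGeometry.Scheme.Hom.finrank_SpecMap_algebraMap, Module.rankAtStalk_eq_finrank_of_free] at h
  exact h

/-- A grouplike element of prime order embeds the coordinate ring of a congruence group as a direct summand. -/
theorem exists_hom_AK {M : Type*} (π : M → (A →ₐ[R] K)) (χ : M → ZMod p) (hχ : Function.Surjective χ)
    (ζ : R) (hζ : IsPrimitiveRoot ζ p) (u : A)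
    (hu : IsGroupLikeElem R u) (hup : u ^ p = 1) (hu1 : u ≠ 1)
    (hπu : ∀ m : M, π m u = algebraMap R K ζ ^ (χ m).val) :
    ∃ (lam : R) (h : SekSuwa.DivCond lam p) (φ : SekSuwa.AK R lam p h →ₐc[R] A),
      lam ≠ 0 ∧ ∃ l : A →ₗ[R] SekSuwa.AK R lam p h, (∀ x, l (φ x) = x) ∧ 1 + lam • φ SekSuwa.AK.t = u := by
  classical
  have hp : p.Prime := Fact.out
  haveI : NeZero p := ⟨hp.ne_zero⟩
  haveI : Module.IsTorsionFree R A := inferInstance
  let b := Module.finBasis R A
  let J : Ideal R := Ideal.span (Set.range fun i => b.repr (u - 1) i)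
  obtain ⟨lam, hlam⟩ : ∃ lam, J = Ideal.span {lam} := (IsPrincipalIdealRing.principal J).principal
  have hl0 : lam ≠ 0 := by
    intro h0
    rw [h0, Ideal.span_singleton_zero, Ideal.span_eq_bot] at hlam
    exact hu1 (sub_eq_zero.1 (b.ext_elem fun i => (hlam _ ⟨i, rfl⟩).trans (by simp)))
  have hdvd : ∀ i, ∃ s, lam * s = b.repr (u - 1) i := fun i => by
    have : b.repr (u - 1) i ∈ J := Ideal.subset_span ⟨i, rfl⟩
    rw [hlam, Ideal.mem_span_singleton] at this
    obtain ⟨s, hs⟩ := this
    exact ⟨s, hs.symm⟩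
  choose s hs using hdvd
  let t : A := ∑ i, s i • b i
  have hlt : lam • t = u - 1 := by
    conv_rhs => rw [← b.sum_repr (u - 1)]
    simp only [t, Finset.smul_sum, smul_smul, hs]
  have hu_t : u = 1 + lam • t := by rw [hlt]; abel
  have hct : Coalgebra.counit (R := R) t = 0 := by
    have h1 := congrArg (Coalgebra.counit (R := R)) hlt
    rw [map_smul, map_sub, hu.counit_eq_one, Bialgebra.counit_one, sub_self, smul_eq_mul] at h1
    exact (mul_eq_zero.1 h1).resolve_left hl0
  have hΔt : Coalgebra.comul (R := R) t = t ⊗ₜ[R] 1 + 1 ⊗ₜ[R] t + lam • (t ⊗ₜ[R] t) := by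
    refine smul_right_injective (A ⊗[R] A) hl0 ?_
    show lam • _ = lam • _
    rw [← map_smul, hlt, map_sub, hu.comul_eq_tmul_self, Bialgebra.comul_one, Algebra.TensorProduct.one_def, hu_t]
    simp only [TensorProduct.add_tmul, TensorProduct.tmul_add, TensorProduct.smul_tmul', TensorProduct.tmul_smul,
      smul_add]
    abel
  -- the congruence condition
  let σ := Function.surjInv hχ
  have hπσ : ∀ i, π (σ i) u = algebraMap R K ζ ^ i.val := fun i => by
    rw [hπu, Function.surjInv_eq hχ]
  have hint : ∀ i : ZMod p, ∃ r : R, algebraMap R K r = π (σ i) t := fun i =>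
    IsIntegrallyClosed.isIntegral_iff.1 (((Algebra.IsIntegral.of_finite R A).isIntegral t).map (π (σ i)))
  choose r hr using hint
  have hrl : ∀ i : ZMod p, lam * r i = ζ ^ i.val - 1 := fun i => IsFractionRing.injective R K (by
    rw [map_mul, hr, map_sub, map_pow, map_one, ← hπσ, ← map_one (π (σ i)), ← map_sub, ← hlt, map_smul, Algebra.smul_def])
  have hdiv : SekSuwa.DivCond lam p := by
    refine ⟨mem_nonZeroDivisors_of_ne_zero hl0, ∏ i : ZMod p, (Polynomial.X - Polynomial.C (r i)), ?_⟩
    have hY := congrArg (fun P : R[X] => P.comp (1 + Polynomial.C lam * Polynomial.X))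
      (X_pow_sub_C_eq_prod hζ hp.pos (α := (1 : R)) (one_pow p))
    simp only [sub_comp, pow_comp, X_comp, C_comp, map_one, mul_one, one_comp, prod_comp] at hY
    rw [hY, map_pow, ← Fin.prod_univ_eq_prod_range]
    have hcard : (Finset.univ : Finset (ZMod p)).card = p := by rw [Finset.card_univ, ZMod.card]
    rw [show (Polynomial.C lam : R[X]) ^ p = ∏ _i : ZMod p, Polynomial.C lam by rw [Finset.prod_const, hcard],
      ← Finset.prod_mul_distrib]
    refine Fintype.prod_equiv (ZMod.finEquiv p).toEquiv.symm _ _ fun i => ?_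
    rw [mul_sub, ← map_mul, hrl]
    simp only [map_sub, map_pow, map_one, RingEquiv.toEquiv_eq_coe]
    have : (((ZMod.finEquiv p).toEquiv.symm i : Fin p) : ℕ) = i.val := by
      obtain ⟨m, hm⟩ := Nat.exists_eq_succ_of_ne_zero hp.ne_zero
      subst hm; rfl
    simp only [RingEquiv.toEquiv_eq_coe] at this
    rw [this]
    ring
  -- the homomorphism
  have hinv : (1 + lam • t) * u ^ (p - 1) = 1 := by
    rw [← hu_t, ← pow_succ', Nat.sub_add_cancel hp.one_le, hup]
  have hPt : Polynomial.aeval t (SekSuwa.psiPoly lam p hdiv) = 0 := by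
    have h1 := SekSuwa.aeval_psiPoly hdiv t
    rw [← Algebra.smul_def, ← Algebra.smul_def, ← hu_t, hup, sub_self] at h1
    exact (smul_eq_zero.1 h1).resolve_left (pow_ne_zero _ hl0)
  let φ₀ : SekSuwa.AK R lam p hdiv →ₐ[R] A :=
    Ideal.Quotient.liftₐ _ (SekSuwa.A.lift R lam t (u ^ (p - 1)) hinv) (by
      intro a ha
      obtain ⟨d, rfl⟩ := Ideal.mem_span_singleton'.mp ha
      rw [map_mul, SekSuwa.kerGen, ← Polynomial.aeval_algHom_apply, SekSuwa.A.lift_t, hPt, mul_zero])
  have hφt : φ₀ SekSuwa.AK.t = t := SekSuwa.A.lift_t t _ hinv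
  have hφi : φ₀ SekSuwa.AK.inv = u ^ (p - 1) := SekSuwa.A.lift_inv t _ hinv
  let φ : SekSuwa.AK R lam p hdiv →ₐc[R] A := BialgHom.ofAlgHom φ₀
    (by
      refine SekSuwa.AK.algHom_ext ?_ ?_
      · rw [AlgHom.comp_apply, hφt]
        exact hct.trans (SekSuwa.AK.counit_t (R := R) (lam := lam) (N := p) (h := hdiv)).symm
      · rw [AlgHom.comp_apply, hφi]
        exact (hu.pow (n := p - 1)).counit_eq_one.trans (SekSuwa.AK.counit_inv (R := R) (lam := lam) (N := p) (h := hdiv)).symm)
    (by
      refine SekSuwa.AK.algHom_ext ?_ ?_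
      · rw [AlgHom.comp_apply, AlgHom.comp_apply, hφt]
        change Algebra.TensorProduct.map φ₀ φ₀ (Coalgebra.comul (R := R) SekSuwa.AK.t) = Coalgebra.comul (R := R) t
        rw [SekSuwa.AK.comul_t, hΔt]
        simp [hφt]
      · rw [AlgHom.comp_apply, AlgHom.comp_apply, hφi]
        change Algebra.TensorProduct.map φ₀ φ₀ (Coalgebra.comul (R := R) SekSuwa.AK.inv) =
          Coalgebra.comul (R := R) (u ^ (p - 1))
        rw [SekSuwa.AK.comul_inv, (hu.pow (n := p - 1)).comul_eq_tmul_self, Algebra.TensorProduct.map_tmul, hφi])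
  refine ⟨lam, hdiv, φ, hl0, ?_⟩
  -- surjectivity modulo the maximal ideal
  let k := IsLocalRing.ResidueField R
  let Cr := k ⊗[R] A
  let ι : A →ₐ[R] Cr := Algebra.TensorProduct.includeRight
  let Ψ : A ⊗[R] A →ₐ[R] Cr ⊗[k] Cr := Algebra.TensorProduct.lift
    ((Algebra.TensorProduct.includeLeft : Cr →ₐ[R] Cr ⊗[k] Cr).comp ι)
    (((Algebra.TensorProduct.includeRight : Cr →ₐ[k] Cr ⊗[k] Cr).restrictScalars R).comp ι) (fun _ _ => Commute.all _ _)
  have hι : Function.Surjective ι := Algebra.TensorProduct.includeRight_surjective A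
    IsLocalRing.residue_surjective
  have hker : ∀ z : A, ι z = 0 → ∃ (π₀ : R) (w : A), π₀ ∈ IsLocalRing.maximalIdeal R ∧ z = π₀ • w := by
    intro z hz
    obtain ⟨ϖ, hϖ⟩ := IsDiscreteValuationRing.exists_irreducible R
    have hm : IsLocalRing.maximalIdeal R = Ideal.span {ϖ} := hϖ.maximalIdeal_eq
    have hcoord : ∀ i, ∃ y, b.repr z i = ϖ * y := fun i => by
      have h2 := congrArg (fun c => (b.baseChange k).repr c i) hz
      change (b.baseChange k).repr ((1 : k) ⊗ₜ[R] z) i = _ at h2
      rw [Module.Basis.baseChange_repr_tmul, map_zero, Finsupp.zero_apply, ← Algebra.algebraMap_eq_smul_one] at h2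
      have h3 : b.repr z i ∈ IsLocalRing.maximalIdeal R := (IsLocalRing.residue_eq_zero_iff _).1 h2
      rw [hm, Ideal.mem_span_singleton] at h3
      exact h3
    choose y hy using hcoord
    refine ⟨ϖ, ∑ i, y i • b i, by rw [hm]; exact Ideal.mem_span_singleton_self _, ?_⟩
    conv_lhs => rw [← b.sum_repr z]
    simp only [Finset.smul_sum, smul_smul, hy]
  haveI : Module.Finite k Cr := Module.Finite.base_change R k A
  haveI : Nontrivial A := nontrivial_of_ne _ _ hu1
  have hrpos : 0 < Module.finrank R A := Module.finrank_pos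
  -- the key: powers of an element of the image are independent
  have key : ∃ y : A, y ∈ φ₀.range ∧ p ≤ (minpoly k (ι y)).natDegree := by
    have hΔ : ∀ (y : A) (Δy : A ⊗[R] A), Coalgebra.comul (R := R) y = Δy →
        Polynomial.aeval (Ψ Δy) (minpoly k (ι y)) = 0 := by
      intro y Δy hy
      obtain ⟨Q, hQ⟩ := Polynomial.map_surjective (IsLocalRing.residue R) IsLocalRing.residue_surjective
        (minpoly k (ι y))
      rw [← hQ, ← IsLocalRing.ResidueField.algebraMap_eq, Polynomial.aeval_map_algebraMap, Polynomial.aeval_algHom_apply,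
        ← hy, show (Coalgebra.comul (R := R) y) = Bialgebra.comulAlgHom R A y from rfl, Polynomial.aeval_algHom_apply]
      have hz : ι (Polynomial.aeval y Q) = 0 := by
        rw [← Polynomial.aeval_algHom_apply, ← Polynomial.aeval_map_algebraMap k, IsLocalRing.ResidueField.algebraMap_eq,
          hQ, minpoly.aeval]
      obtain ⟨π₀, w, hπ₀, hzw⟩ := hker _ hz
      rw [hzw, map_smul, map_smul, ← IsScalarTower.algebraMap_smul k π₀,
        IsLocalRing.ResidueField.algebraMap_eq, (IsLocalRing.residue_eq_zero_iff _).2 hπ₀, zero_smul]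
    haveI : Nontrivial Cr := Module.nontrivial_of_finrank_pos (R := k) (by rw [Module.finrank_baseChange]; exact hrpos)
    have hint' : ∀ y : Cr, IsIntegral k y := fun y => (Algebra.IsIntegral.of_finite k Cr).isIntegral y
    let εk : Cr →ₐ[k] k := Algebra.TensorProduct.lift (AlgHom.id k k)
      ((Algebra.ofId R k).comp (Bialgebra.counitAlgHom R A)) (fun _ _ => Commute.all _ _)
    have hεk : ∀ y, εk (ι y) = algebraMap R k (Coalgebra.counit y) := fun y => (Algebra.TensorProduct.lift_tmul _ _ _ (1 : k) y).trans (one_mul _)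
    have hdpos : ∀ y : Cr, 0 < (minpoly k y).natDegree := fun y => minpoly.natDegree_pos (hint' y)
    by_cases hlm : lam ∈ IsLocalRing.maximalIdeal R
    · refine ⟨t, ⟨SekSuwa.AK.t, hφt⟩, ?_⟩
      by_contra! hlt'
      have h := hΔ t _ hΔt
      have hl : (algebraMap R k lam) = 0 := (IsLocalRing.residue_eq_zero_iff _).2 hlm
      have hΨ : Ψ (t ⊗ₜ[R] 1 + 1 ⊗ₜ[R] t + lam • (t ⊗ₜ[R] t)) = ι t ⊗ₜ[k] (1 : Cr) + (1 : Cr) ⊗ₜ[k] ι t := by
        rw [map_add, map_add, map_smul, ← IsScalarTower.algebraMap_smul k lam, hl, zero_smul, add_zero]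
        simp [Ψ]
      rw [hΨ] at h
      have hd : ((minpoly k (ι t)).natDegree : k) ≠ 0 := fun h0 => by
        have := Nat.le_of_dvd (hdpos _) ((CharP.cast_eq_zero_iff k p _).1 h0)
        omega
      have h1 : (minpoly k (ι t)).natDegree = 1 :=
        le_antisymm (natDegree_le_one_of_primitive _ (hint' _) h hd) (hdpos _)
      obtain ⟨c₀, hc₀⟩ : ι t ∈ (algebraMap k Cr).range :=
        minpoly.mem_range_of_degree_eq_one k (ι t)
          (by rw [Polynomial.degree_eq_natDegree (minpoly.ne_zero (hint' _)), h1]; rfl)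
      have hc0 : c₀ = 0 := by
        have := congrArg εk hc₀
        rwa [AlgHom.commutes, hεk, hct, map_zero] at this
      rw [hc0, map_zero] at hc₀
      obtain ⟨π₀, w, hπ₀, htw⟩ := hker t hc₀.symm
      have hall : ∀ i, s i ∈ IsLocalRing.maximalIdeal R := fun i => by
        have h2 := congrArg (fun a => b.repr a i) htw
        simp only [t, map_sum, map_smul, Finsupp.smul_apply, Module.Basis.repr_self, Finsupp.finset_sum_apply,
          Finsupp.single_apply, smul_eq_mul, mul_ite, mul_one, mul_zero, Finset.sum_ite_eq', Finset.mem_univ,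
          if_true] at h2
        rw [h2]
        exact Ideal.mul_mem_right _ _ hπ₀
      have hle : J ≤ IsLocalRing.maximalIdeal R * Ideal.span {lam} := by
        rw [Ideal.span_le]
        rintro _ ⟨i, rfl⟩
        show b.repr (u - 1) i ∈ _
        rw [← hs, mul_comm lam]
        exact Ideal.mul_mem_mul (hall i) (Ideal.mem_span_singleton_self lam)
      rw [hlam] at hle
      obtain ⟨z, hz, hz'⟩ := Ideal.mem_mul_span_singleton.1 (hle (Ideal.mem_span_singleton_self lam))
      have : z = 1 := mul_right_cancel₀ hl0 (hz'.trans (one_mul lam).symm)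
      exact (IsLocalRing.maximalIdeal.isMaximal R).ne_top ((Ideal.eq_top_iff_one _).2 (this ▸ hz))
    · have hunit : IsUnit lam := IsLocalRing.notMem_maximalIdeal.1 hlm
      refine ⟨u, ⟨1 + lam • SekSuwa.AK.t, show φ₀ (1 + lam • SekSuwa.AK.t) = u by rw [map_add, map_one, map_smul, hφt, ← hu_t]⟩, ?_⟩
      by_contra! hlt'
      have h := hΔ u _ hu.comul_eq_tmul_self
      have hΨ : Ψ (u ⊗ₜ[R] u) = ι u ⊗ₜ[k] ι u := by simp [Ψ, Algebra.TensorProduct.tmul_mul_tmul]
      rw [hΨ] at h
      have h1 : (minpoly k (ι u)).eval 1 = 0 := by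
        have := congrArg εk (minpoly.aeval k (ι u))
        rw [← Polynomial.aeval_algHom_apply, hεk, hu.counit_eq_one, map_one, map_zero] at this
        exact this
      obtain ⟨i, hi, hpow⟩ := exists_pow_eq_of_grouplike _ (hint' _) h h1
      have hup' : ι u ^ p = 1 := by rw [← map_pow, hup, map_one]
      have hd1 : ι u ^ ((minpoly k (ι u)).natDegree - i) = 1 := by
        have hunit' : IsUnit (ι u ^ i) := (IsUnit.of_pow_eq_one hup' hp.ne_zero).pow i
        refine hunit'.mul_right_cancel ?_
        rw [← pow_add, Nat.sub_add_cancel hi.le, hpow, one_mul]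
      have hdvd1 : orderOf (ι u) ∣ (minpoly k (ι u)).natDegree - i := orderOf_dvd_of_pow_eq_one hd1
      have hdvd2 : orderOf (ι u) ∣ p := orderOf_dvd_of_pow_eq_one hup'
      rcases hp.eq_one_or_self_of_dvd _ hdvd2 with ho | ho
      · rw [orderOf_eq_one_iff] at ho
        have : ι (u - 1) = 0 := by rw [map_sub, ho, map_one, sub_self]
        obtain ⟨π₀, w, hπ₀, huw⟩ := hker _ this
        have hle : J ≤ IsLocalRing.maximalIdeal R := by
          rw [Ideal.span_le]
          rintro _ ⟨m, rfl⟩
          show b.repr (u - 1) m ∈ _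
          rw [huw, map_smul, Finsupp.smul_apply, smul_eq_mul]
          exact Ideal.mul_mem_right _ _ hπ₀
        rw [hlam] at hle
        exact hlm (hle (Ideal.mem_span_singleton_self lam))
      · have := Nat.le_of_dvd (by omega) hdvd1
        omega
  obtain ⟨y, hy, hyd⟩ := key
  have hli : LinearIndependent k (fun i : Fin p => ι y ^ (i : ℕ)) :=
    (linearIndependent_pow (K := k) (ι y)).comp (Fin.castLE hyd) (Fin.castLE_injective hyd)
  obtain ⟨hfree, hfin, hrkAK⟩ := AK_free lam hp.pos hdiv
  haveI := hfree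
  haveI := hfin
  obtain ⟨x₀, hx₀⟩ := hy
  let L : k ⊗[R] SekSuwa.AK R lam p hdiv →ₗ[k] Cr := LinearMap.baseChange k φ₀.toLinearMap
  have hL : Function.Injective L := by
    have hle : p ≤ Module.finrank k (LinearMap.range L) := by
      refine le_trans (le_of_eq ?_) (Submodule.finrank_mono (s := Submodule.span k
        (Set.range fun i : Fin p => ι y ^ (i : ℕ))) ?_)
      · rw [finrank_span_eq_card hli, Fintype.card_fin]
      · rw [Submodule.span_le]
        rintro _ ⟨i, rfl⟩
        refine ⟨1 ⊗ₜ[R] (x₀ ^ (i : ℕ)), ?_⟩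
        show L (1 ⊗ₜ[R] (x₀ ^ (i : ℕ))) = ι y ^ (i : ℕ)
        rw [← map_pow ι, ← hx₀]
        exact (LinearMap.baseChange_tmul _ _ _).trans (congrArg _ (map_pow φ₀ _ _))
    have h1 := LinearMap.finrank_range_add_finrank_ker L
    rw [Module.finrank_baseChange, hrkAK] at h1
    rw [← LinearMap.ker_eq_bot, ← Submodule.finrank_eq_zero]
    omega
  obtain ⟨l, hl⟩ := (IsLocalRing.split_injective_iff_lTensor_residueField_injective φ₀.toLinearMap).2 hL
  exact ⟨l, fun x => congr($hl x), (congrArg (fun z => 1 + lam • z) hφt).trans hu_t.symm⟩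

/-- An order with a nontrivial grouplike element of prime order is a congruence group. -/
theorem exists_equiv_AK (π : ZMod p → (A →ₐ[R] K)) (_hfn : Function.Injective (fn π))
    (hrk : Module.finrank R A = p) (ζ : R) (hζ : IsPrimitiveRoot ζ p) (u : A)
    (hu : IsGroupLikeElem R u) (hup : u ^ p = 1) (hu1 : u ≠ 1)
    (hπu : ∀ i : ZMod p, π i u = algebraMap R K ζ ^ i.val) :
    ∃ (lam : R) (h : SekSuwa.DivCond lam p) (φ : SekSuwa.AK R lam p h →ₐc[R] A),
      lam ≠ 0 ∧ Function.Bijective φ := by
  obtain ⟨lam, hdiv, φ, hl0, l, hl, -⟩ := exists_hom_AK π id Function.surjective_id ζ hζ u hu hup hu1 hπu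
  refine ⟨lam, hdiv, φ, hl0, fun a b hab => by rw [← hl a, hab, hl b], fun a => ⟨l a, ?_⟩⟩
  obtain ⟨hfree, hfin, hrkAK⟩ := AK_free lam (hpf.out).pos hdiv
  haveI := hfree
  haveI := hfin
  have hls : Function.Surjective l := fun x => ⟨φ x, hl x⟩
  let e := LinearEquiv.ofFinrankEq A (SekSuwa.AK R lam p hdiv) (hrk.trans hrkAK.symm)
  exact OrzechProperty.injective_of_surjective_of_injective e.toLinearMap l e.injective hls (hl (l a))

end Main

end GrothLib.SekSuwa
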