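import Groth.Prelude.Def_SekSuwa2
import Mathlib.RingTheory.Coalgebra.Convolution
import Mathlib.RingTheory.Coalgebra.GroupLike
import Mathlib.RingTheory.DiscreteValuationRing.Basic
import Mathlib.RingTheory.RootsOfUnity.PrimitiveRoots
import Mathlib.FieldTheory.KummerExtension
import Mathlib.LinearAlgebra.FreeModule.PID
import Mathlib.RingTheory.PowerBasis
import Mathlib.RingTheory.Nakayama
import Mathlib.FieldTheory.Fixed
import Groth.Agent.S14694
import Mathlib.RingTheory.Polynomial.RationalRoot
import Mathlib.RingTheory.IntegralClosure.IntegrallyClosed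

/-!
Hopf orders in the functions on a group of prime order over a discrete valuation ring containing the roots
of unity.
-/

universe u

open TensorProduct WithConv

noncomputable section

namespace GrothLib.SekSuwa

variable {R : Type u} [CommRing R] [IsDomain R] [IsDiscreteValuationRing R]
  {K : Type u} [Field K] [Algebra R K] [IsFractionRing R K]
  {A : Type u} [CommRing A] [HopfAlgebra R A] [Module.Finite R A] [Module.Free R A]
  {M : Type*} [AddMonoid M] [Fintype M]
  {p : ℕ} [Fact p.Prime]

/-- The function of an element. -/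
def fn (π : M → (A →ₐ[R] K)) : A →ₐ[R] (M → K) :=
  Pi.algHom R (fun _ : M => K) π

omit [IsDomain R] [IsDiscreteValuationRing R] [IsFractionRing R K] [Module.Finite R A] [Module.Free R A]
  [AddMonoid M] [Fintype M] in
theorem fn_apply (π : M → (A →ₐ[R] K)) (a : A) (i : M) : fn π a i = π i a := rfl

/-- A basis of the functions coming from a basis of the order. -/
theorem exists_basis (π : M → (A →ₐ[R] K)) (hdist : Function.Injective π)
    (hinj : Function.Injective (Algebra.TensorProduct.lift (Algebra.ofId K (M → K)) (fn π) fun _ _ => Commute.all _ _)) :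
    ∃ (n : ℕ) (b : Module.Basis (Fin n) R A) (c : Module.Basis (Fin n) K (M → K)),
      n = Fintype.card M ∧ ∀ k, c k = fn π (b k) := by
  classical
  let J := Algebra.TensorProduct.lift (Algebra.ofId K (M → K)) (fn π) fun _ _ => Commute.all _ _
  have hsurj : Function.Surjective J := by
    by_contra hns
    have hlt : LinearMap.range J.toLinearMap < ⊤ := lt_top_iff_ne_top.2 fun h =>
      hns (LinearMap.range_eq_top.1 h)
    obtain ⟨φ, hφ0, hφ⟩ := Submodule.exists_le_ker_of_lt_top _ hlt
    have hd : ∀ h : M → K, φ h = ∑ i, φ (Pi.single i 1) * h i := fun h => by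
      conv_lhs => rw [pi_eq_sum_univ' h]
      simp [map_sum, mul_comm]
    have hli : LinearIndependent K (fun i : M => ((π i : A →ₐ[R] K) : A → K)) :=
      (linearIndependent_monoidHom A K).comp (fun i => ((π i : A →ₐ[R] K) : A →* K))
        (fun i j h => hdist (AlgHom.ext fun a => congr($h a)))
    have h0 := Fintype.linearIndependent_iff.1 hli (fun i => φ (Pi.single i 1)) (funext fun a => by
      have h := hφ ⟨(1 : K) ⊗ₜ[R] a, rfl⟩
      rw [LinearMap.mem_ker, hd] at h
      simpa [J, fn_apply] using h)
    exact hφ0 (LinearMap.ext fun h => by rw [hd]; simp [h0])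
  let b := Module.finBasis R A
  let c := (b.baseChange K).map (LinearEquiv.ofBijective J.toLinearMap ⟨hinj, hsurj⟩)
  refine ⟨_, b, c, ?_, fun k => ?_⟩
  · have h := Module.finrank_eq_card_basis c
    rw [Module.finrank_fintype_fun_eq_card, Fintype.card_fin] at h
    exact h.symm
  · simp only [c, J, Module.Basis.map_apply, Module.Basis.baseChange_apply]
    exact (Algebra.TensorProduct.lift_tmul _ _ (fun _ _ => Commute.all _ _) (1 : K) (b k)).trans (by rw [map_one, one_mul])

section

variable {n : ℕ} (π : M → (A →ₐ[R] K)) (b : Module.Basis (Fin n) R A)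
  (c : Module.Basis (Fin n) K (M → K)) (hc : ∀ k, c k = fn π (b k))
  (hmul : ∀ i j, toConv (π (i + j)) = toConv (π i) * toConv (π j))

/-- The extension of a functional to the functions. -/
def ext (f : A →ₗ[R] R) : (M → K) →ₗ[K] K := c.constr K fun k => algebraMap R K (f (b k))

include hc in
theorem ext_fn (f : A →ₗ[R] R) (a : A) : ext b c f (fn π a) = algebraMap R K (f a) := by
  conv_lhs => rw [← b.sum_repr a]
  conv_rhs => rw [← b.sum_repr a]
  simp only [map_sum, map_smul, ← hc]
  refine Finset.sum_congr rfl fun k _ => ?_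
  rw [← IsScalarTower.algebraMap_smul K, map_smul, ext, Module.Basis.constr_basis, smul_eq_mul, smul_eq_mul,
    map_mul]

include hmul in
theorem fn_add (a : A) (i j : M) {ι : Type*} (s : Finset ι) (x y : ι → A)
    (hs : Coalgebra.comul (R := R) a = ∑ k ∈ s, x k ⊗ₜ[R] y k) :
    fn π a (i + j) = ∑ k ∈ s, fn π (x k) i * fn π (y k) j := by
  have h := AlgHom.convMul_apply (toConv (π i)) (toConv (π j)) a
  rw [← hmul] at h
  simp only [fn_apply]
  rw [ofConv_toConv] at h
  rw [h, hs]
  simp

include hc hmul in
theorem ext_conv (f g : WithConv (A →ₗ[R] R)) (h : M → K) :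
    ext b c (f * g).ofConv h = ext b c f.ofConv (fun i => ext b c g.ofConv (fun j => h (i + j))) := by
  let l : (M → K) →ₗ[K] (M → K) :=
    LinearMap.pi fun i => (ext b c g.ofConv) ∘ₗ LinearMap.funLeft K K (fun j => i + j)
  suffices hh : ext b c (f * g).ofConv = ext b c f.ofConv ∘ₗ l from congr($hh h)
  refine c.ext fun k => ?_
  obtain ⟨s, hs⟩ := TensorProduct.exists_finset (Coalgebra.comul (R := R) (b k))
  rw [hc, ext_fn π b c hc, LinearMap.comp_apply]
  have e : l (fn π (b k)) = ∑ q ∈ s, algebraMap R K (g.ofConv q.2) • fn π q.1 := funext fun i => by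
    change ext b c g.ofConv (fun j => fn π (b k) (i + j)) = _
    rw [show (fun j => fn π (b k) (i + j)) = ∑ q ∈ s, fn π q.1 i • fn π q.2 from
      funext fun j => by rw [fn_add π hmul (b k) i j s _ _ hs]; simp [Finset.sum_apply]]
    simp [map_sum, ext_fn π b c hc, Finset.sum_apply, Algebra.smul_def (R := R) (A := K), mul_comm]
  rw [e, LinearMap.convMul_apply, hs]
  simp [map_sum, ext_fn π b c hc, Algebra.smul_def (R := R) (A := K), mul_comm]

include hc hmul in
/-- A grouplike function is integral. -/
theorem exists_of_mul (h : M → K) (hh : ∀ i j, h (i + j) = h i * h j) (h0 : h 0 = 1)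
    (hz : ∀ a, π 0 a = algebraMap R K (Coalgebra.counit a)) : ∃ a : A, fn π a = h := by
  let Φ : WithConv (A →ₗ[R] R) →ₐ[R] K :=
    { toFun := fun f => ext b c f.ofConv h
      map_one' := by
        show ext b c (1 : WithConv (A →ₗ[R] R)).ofConv h = 1
        rw [show ext b c (1 : WithConv (A →ₗ[R] R)).ofConv = LinearMap.proj 0 from c.ext fun k => by
          rw [hc, ext_fn π b c hc, LinearMap.proj_apply, fn_apply, hz]; rfl]
        exact h0
      map_mul' := fun f g => by
        rw [ext_conv π b c hc hmul]
        simp only [hh]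
        rw [show (fun i => ext b c g.ofConv (fun j => h i * h j)) = ext b c g.ofConv h • h from funext fun i => by
          rw [show (fun j => h i * h j) = h i • h from rfl, map_smul, Pi.smul_apply, smul_eq_mul, smul_eq_mul,
            mul_comm], map_smul, smul_eq_mul, mul_comm]
      map_zero' := by simp [ext]
      map_add' := fun f g => by
        show ext b c (f + g).ofConv h = _
        simp [ext, Module.Basis.constr_apply_fintype, add_mul, Finset.sum_add_distrib, mul_add]
      commutes' := fun r => by
        show ext b c (algebraMap R (WithConv (A →ₗ[R] R)) r).ofConv h = algebraMap R K r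
        rw [show ext b c (algebraMap R (WithConv (A →ₗ[R] R)) r).ofConv = algebraMap R K r • LinearMap.proj 0 from
          c.ext fun k => by
            rw [hc, ext_fn π b c hc, LinearMap.smul_apply, LinearMap.proj_apply, fn_apply, hz, smul_eq_mul, ← map_mul]
            congr 1]
        rw [LinearMap.smul_apply, LinearMap.proj_apply, h0, smul_eq_mul, mul_one] }
  haveI : Module.Finite R (WithConv (A →ₗ[R] R)) :=
    Module.Finite.equiv (WithConv.linearEquiv R (A →ₗ[R] R)).symm
  haveI : Algebra.IsIntegral R (WithConv (A →ₗ[R] R)) := Algebra.IsIntegral.of_finite R _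
  have key : ∀ f : WithConv (A →ₗ[R] R), ∃ r, algebraMap R K r = Φ f := fun f =>
    IsIntegrallyClosed.isIntegral_iff.1 ((Algebra.IsIntegral.isIntegral (R := R) f).map Φ)
  choose r hr using fun k => key (toConv (b.coord k))
  refine ⟨∑ k, r k • b k, ?_⟩
  rw [map_sum]
  refine Eq.trans ?_ (c.sum_repr h)
  refine Finset.sum_congr rfl fun k _ => ?_
  rw [map_smul, ← hc, ← IsScalarTower.algebraMap_smul K, hr]
  congr 1
  show ext b c (b.coord k) h = c.repr h k
  rw [show ext b c (b.coord k) = c.coord k from c.ext fun m => by
    rw [hc, ext_fn π b c hc, ← hc]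
    simp [Finsupp.single_apply, eq_comm], Module.Basis.coord_apply]

include hc in
theorem fn_injective : Function.Injective (fn π) := fun x y h => by
  refine b.ext_elem fun k => IsFractionRing.injective R K ?_
  have h1 := congrArg (ext b c (b.coord k)) h
  rwa [ext_fn π b c hc, ext_fn π b c hc] at h1

include hc in
/-- Two tensors agree when they agree on all pairs of points. -/
theorem eq_of_points {z w : A ⊗[R] A}
    (h : ∀ i j, Algebra.TensorProduct.lift (π i) (π j) (fun _ _ => Commute.all _ _) z =
      Algebra.TensorProduct.lift (π i) (π j) (fun _ _ => Commute.all _ _) w) : z = w := by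
  refine (b.tensorProduct b).ext_elem fun kl => IsFractionRing.injective R K ?_
  have hlin : ∀ z : A ⊗[R] A, algebraMap R K ((b.tensorProduct b).repr z kl) =
      ext b c (b.coord kl.1) (fun i => ext b c (b.coord kl.2)
        (fun j => Algebra.TensorProduct.lift (π i) (π j) (fun _ _ => Commute.all _ _) z)) := by
    intro z
    induction z using TensorProduct.induction_on with
    | zero => simp; symm; exact (congrArg _ (funext fun i => by exact map_zero _)).trans (map_zero _)
    | add x y hx hy =>
      simp only [map_add, Finsupp.add_apply, hx, hy]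
      rw [← map_add (ext b c (b.coord kl.1))]
      refine congrArg _ (funext fun i => ?_)
      rw [Pi.add_apply, ← map_add (ext b c (b.coord kl.2))]
      rfl
    | tmul x y =>
      rw [Module.Basis.tensorProduct_repr_tmul_apply, smul_eq_mul, map_mul, mul_comm]
      simp only [Algebra.TensorProduct.lift_tmul]
      have e : ∀ i, ext b c (b.coord kl.2) (fun j => π i x * π j y) = algebraMap R K (b.repr y kl.2) * π i x :=
        fun i => by
        rw [show (fun j => π i x * π j y) = π i x • fn π y from rfl, map_smul, ext_fn π b c hc, smul_eq_mul,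
          mul_comm]
        rfl
      simp only [e]
      rw [show (fun i => algebraMap R K (b.repr y kl.2) * π i x) = algebraMap R K (b.repr y kl.2) • fn π x from rfl,
        map_smul, ext_fn π b c hc, smul_eq_mul, mul_comm]
      rfl
  rw [hlin, hlin]
  simp only [h]

end

/-- The order contains the grouplike function given by a character. -/
theorem exists_grouplike' (π : M → (A →ₐ[R] K)) (hdist : Function.Injective π)
    (hinj : Function.Injective (Algebra.TensorProduct.lift (Algebra.ofId K (M → K)) (fn π) fun _ _ => Commute.all _ _))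
    (hmul : ∀ i j, toConv (π (i + j)) = toConv (π i) * toConv (π j))
    (hz : ∀ a, π 0 a = algebraMap R K (Coalgebra.counit a))
    (ζ : R) (hζ : IsPrimitiveRoot ζ p) (χ : M →+ ZMod p) (hχ : Function.Surjective χ) :
    Module.finrank R A = Fintype.card M ∧ Function.Injective (fn π) ∧ ∃ u : A, IsGroupLikeElem R u ∧ u ^ p = 1 ∧ u ≠ 1 ∧
      ∀ i : M, π i u = algebraMap R K ζ ^ (χ i).val := by
  haveI : NeZero p := ⟨(Fact.out : p.Prime).ne_zero⟩
  obtain ⟨n, b, c, hn, hc⟩ := exists_basis π hdist hinj
  have hp : (algebraMap R K ζ) ^ p = 1 := by rw [← map_pow, hζ.pow_eq_one, map_one]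
  let h : M → K := fun i => algebraMap R K ζ ^ (χ i).val
  have hh : ∀ i j, h (i + j) = h i * h j := fun i j => by
    simp only [h]
    rw [← pow_add, map_add, ZMod.val_add, ← pow_mod_orderOf, ← pow_mod_orderOf (n := (χ i).val + (χ j).val)]
    congr 1
    exact Nat.mod_mod_of_dvd _ (orderOf_dvd_of_pow_eq_one hp)
  obtain ⟨u, hu⟩ := exists_of_mul π b c hc hmul h hh (by simp [h]) hz
  have hu' : ∀ i : M, π i u = algebraMap R K ζ ^ (χ i).val := fun i => congr($hu i)
  have hfi := fn_injective π b c hc
  refine ⟨by rw [Module.finrank_eq_card_basis b, Fintype.card_fin, hn], hfi, u, ⟨?_, ?_⟩, ?_, ?_, hu'⟩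
  · exact IsFractionRing.injective R K (((hz u).symm.trans (hu' 0)).trans (by simp))
  · refine eq_of_points π b c hc fun i j => ?_
    rw [Algebra.TensorProduct.lift_tmul, hu', hu', ← pow_add]
    obtain ⟨s, hs⟩ := TensorProduct.exists_finset (Coalgebra.comul (R := R) u)
    have h2 := fn_add π hmul u i j s _ _ hs
    rw [hu, hh] at h2
    rw [hs, map_sum]
    simp only [Algebra.TensorProduct.lift_tmul, ← fn_apply π]
    rw [pow_add]
    exact h2.symm
  · refine hfi (funext fun i => ?_)
    rw [map_pow, map_one, Pi.pow_apply, fn_apply, hu', ← pow_mul, mul_comm, pow_mul, hp, one_pow]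
    rfl
  · intro h1
    obtain ⟨m, hm⟩ := hχ 1
    have := hu' m
    rw [h1, map_one, hm, ZMod.val_one, pow_one] at this
    exact hζ.ne_one (Fact.out : p.Prime).one_lt (IsFractionRing.injective R K (this.symm.trans (map_one _).symm))

/-- The order contains the grouplike function given by a root of unity. -/
theorem exists_grouplike [NeZero p] (π : ZMod p → (A →ₐ[R] K)) (hdist : Function.Injective π)
    (hinj : Function.Injective (Algebra.TensorProduct.lift (Algebra.ofId K (ZMod p → K)) (fn π) fun _ _ => Commute.all _ _))
    (hmul : ∀ i j, toConv (π (i + j)) = toConv (π i) * toConv (π j))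
    (hz : ∀ a, π 0 a = algebraMap R K (Coalgebra.counit a))
    (ζ : R) (hζ : IsPrimitiveRoot ζ p) :
    Module.finrank R A = p ∧ Function.Injective (fn π) ∧ ∃ u : A, IsGroupLikeElem R u ∧ u ^ p = 1 ∧ u ≠ 1 ∧
      ∀ i : ZMod p, π i u = algebraMap R K ζ ^ i.val := by
  obtain ⟨h1, h2, h3⟩ := exists_grouplike' π hdist hinj hmul hz ζ hζ (AddMonoidHom.id _) Function.surjective_id
  exact ⟨h1.trans (ZMod.card p), h2, h3⟩

end GrothLib.SekSuwa
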