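import Groth.Prelude.Def_SekSuwa2
import Mathlib.AlgebraicGeometry.Group.Affine
import Mathlib.AlgebraicGeometry.Pullbacks

/-!
The square of translations by a subgroup of an affine group from a pushout of rings.
-/

universe u

open CategoryTheory AlgebraicGeometry Limits MonoidalCategory CartesianMonoidalCategory TensorProduct MonObj

noncomputable section

namespace GrothLib.SekSuwa

variable {R : Type u} [CommRing R]

/-- The square of translations by a subgroup is cartesian when the corresponding square of rings is cocartesian. -/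
theorem isPullback_of_pushout {B A C : Type u} [CommRing B] [HopfAlgebra R B] [CommRing A] [HopfAlgebra R A]
    [CommRing C] [HopfAlgebra R C]
    {G : Over (Spec (CommRingCat.of R))} [GrpObj G]
    (i : (Spec (CommRingCat.of A)).asOver (Spec (CommRingCat.of R)) ≅ G) [IsMonHom i.hom]
    (φ : B →ₐc[R] A) (ψ : A →ₐc[R] C)
    (hpo : IsPushout (CommRingCat.ofHom (φ : B →ₐ[R] A).toRingHom) (CommRingCat.ofHom (φ : B →ₐ[R] A).toRingHom)
      (CommRingCat.ofHom (Algebra.TensorProduct.includeLeft : A →ₐ[R] A ⊗[R] C).toRingHom)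
      (CommRingCat.ofHom ((Algebra.TensorProduct.map (AlgHom.id R A) (ψ : A →ₐ[R] C)).comp
        (Bialgebra.comulAlgHom R A)).toRingHom)) :
    IsPullback (fst G _) ((G ◁ (SekSuwa.specHom ψ ≫ i.hom)) ≫ μ[G]) (i.inv ≫ SekSuwa.specHom φ)
      (i.inv ≫ SekSuwa.specHom φ) := by
  let P := (Spec (CommRingCat.of A)).asOver (Spec (CommRingCat.of R))
  let Q := (Spec (CommRingCat.of C)).asOver (Spec (CommRingCat.of R))
  let T := (Spec (CommRingCat.of (A ⊗[R] C))).asOver (Spec (CommRingCat.of R))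
  let iL : A →ₐ[R] A ⊗[R] C := Algebra.TensorProduct.includeLeft
  let iR : A →ₐ[R] A ⊗[R] C :=
    (Algebra.TensorProduct.includeRight : C →ₐ[R] A ⊗[R] C).comp (ψ : A →ₐ[R] C)
  let θ := (Algebra.TensorProduct.map (AlgHom.id R A) (ψ : A →ₐ[R] C)).comp (Bialgebra.comulAlgHom R A)
  have hθ : WithConv.toConv θ = WithConv.toConv iL * WithConv.toConv iR := by
    refine WithConv.ofConv_injective (AlgHom.ext fun a => ?_)
    obtain ⟨s, hs⟩ := TensorProduct.exists_finset (Coalgebra.comul (R := R) a)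
    rw [AlgHom.convMul_apply, hs]
    simp [θ, iL, iR, hs]
  -- the points
  let eT : T ≅ P ⊗ Q := Over.isoMk (pullbackSpecIso R A C).symm (by
    show (pullbackSpecIso R A C).inv ≫ pullback.fst _ _ ≫ _ = _
    exact (pullbackSpecIso_inv_fst_assoc R A C (Spec.map (CommRingCat.ofHom (algebraMap R A)))).trans
      ((Spec.map_comp _ _).symm.trans rfl))
  have heL : eT.hom ≫ fst P Q = Spec.mapMulEquiv (R := R) (WithConv.toConv iL) := by
    ext1
    exact pullbackSpecIso_inv_fst R A C
  have heR : eT.hom ≫ snd P Q ≫ SekSuwa.specHom ψ = Spec.mapMulEquiv (R := R) (WithConv.toConv iR) := by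
    ext1
    refine ((congrArg (· ≫ _) (pullbackSpecIso_inv_snd R A C))).trans ?_ |> (Category.assoc _ _ _).symm.trans
    exact (Spec.map_comp _ _).symm
  let j : T ≅ G ⊗ Q := eT ≪≫ whiskerRightIso i Q
  have h1 : j.hom ≫ fst G Q = Spec.mapMulEquiv (R := R) (WithConv.toConv iL) ≫ i.hom := by
    rw [← heL]
    simp [j]
    rfl
  have h2 : j.hom ≫ (G ◁ (SekSuwa.specHom ψ ≫ i.hom)) ≫ μ[G] = Spec.mapMulEquiv (R := R) (WithConv.toConv θ) ≫ i.hom := by
    rw [hθ, map_mul, MonObj.mul_comp, ← h1, ← heR]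
    have : (G ◁ (SekSuwa.specHom ψ ≫ i.hom)) ≫ μ[G] = fst G Q * (snd G Q ≫ SekSuwa.specHom ψ ≫ i.hom) := by
      refine Eq.trans ?_ (Hom.mul_def _ _).symm
      congr 1
    rw [this, MonObj.comp_mul]
    congr 1
    simp [j]
    rfl
  have hsq : IsPullback (Spec.mapMulEquiv (R := R) (WithConv.toConv iL)) (Spec.mapMulEquiv (R := R) (WithConv.toConv θ))
      (SekSuwa.specHom φ) (SekSuwa.specHom φ) :=
    IsPullback.of_map (Over.forget _) (by
      ext1
      exact (isPullback_SpecMap_of_isPushout _ _ _ _ hpo).w) (isPullback_SpecMap_of_isPushout _ _ _ _ hpo)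
  refine hsq.of_iso j i i (Iso.refl _) ?_ ?_ ?_ ?_
  · exact h1.symm
  · exact h2.symm
  · simp
  · simp

end GrothLib.SekSuwa
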